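import Cfsg.Agent.Characters.Generalized
import Cfsg.Agent.PrincipalBlock.Kernel
import Cfsg.Agent.S3278

/-!
# Generalized characters of norm three containing the principal character once
-/

set_option autoImplicit false
set_option linter.style.haveILetI false
set_option linter.unusedSectionVars false

namespace CfsgLib.NineTwoQ

open CfsgLib.Characters CfsgLib.PrincipalBlock
open scoped ComplexConjugate

universe u

variable {G : Type u} [Group G] [Fintype G]

/-- The principal character and two further irreducible characters with signs. -/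
structure Triple (θ : G → ℂ) where
  f : Cfsg.IrrCharacter G
  x : Cfsg.IrrCharacter G
  ε : ℤ
  ε' : ℤ
  hε : ε = 1 ∨ ε = -1
  hε' : ε' = 1 ∨ ε' = -1
  ne : f ≠ x
  f_ne : f ≠ trivChar G
  x_ne : x ≠ trivChar G
  apply_eq : ∀ g, θ g = 1 + (ε : ℂ) * (f : G → ℂ) g + (ε' : ℂ) * (x : G → ℂ) g
  inner_triv : Cfsg.classInner θ (trivChar G : G → ℂ) = 1
  inner_f : Cfsg.classInner θ (f : G → ℂ) = ε
  inner_x : Cfsg.classInner θ (x : G → ℂ) = ε'
  inner_rest : ∀ χ : Cfsg.IrrCharacter G, χ ≠ trivChar G → χ ≠ f → χ ≠ x →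
    Cfsg.classInner θ (χ : G → ℂ) = 0

/-- A generalized character of norm three meeting the principal character once. -/
theorem exists_triple {θ : G → ℂ} (hgen : Cfsg.IsGeneralizedCharacter G θ)
    (h3 : Cfsg.classInner θ θ = 3) (h1 : Cfsg.classInner θ (fun _ : G => (1 : ℂ)) = 1) :
    Nonempty (Triple θ) := by
  classical
  obtain ⟨m, hm, hmi⟩ := exists_int_coeff hgen
  have hsq : ∑ χ, m χ ^ 2 = 3 := by
    have := (classInner_self_eq_sum_sq (isClassFunction_of_isGen hgen) m hmi).symm.trans h3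
    exact_mod_cast this
  have hm0 : m (trivChar G) = 1 := by
    have h := (hmi (trivChar G)).symm.trans
      (show Cfsg.classInner θ (trivChar G : G → ℂ) = 1 from h1)
    exact_mod_cast h
  have hle : ∀ χ, m χ = 0 ∨ m χ = 1 ∨ m χ = -1 := fun χ => by
    have h := Finset.single_le_sum (f := fun ψ : Cfsg.IrrCharacter G => m ψ ^ 2)
      (fun _ _ => sq_nonneg _) (Finset.mem_univ χ)
    simp only [hsq] at h
    have : -1 ≤ m χ ∧ m χ ≤ 1 := ⟨by nlinarith, by nlinarith⟩
    omega
  set T := Finset.univ.filter fun χ : Cfsg.IrrCharacter G => m χ ≠ 0 with hT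
  have hcard : T.card = 3 := by
    have h : ∑ χ, m χ ^ 2 = (T.card : ℤ) := by
      rw [hT, ← Finset.sum_boole]
      refine Finset.sum_congr rfl fun χ _ => ?_
      rcases hle χ with h | h | h <;> simp [h]
    rw [hsq] at h
    exact_mod_cast h.symm
  have h0 : trivChar G ∈ T := by simp [hT, hm0]
  obtain ⟨f, x, hne, hpair⟩ := Finset.card_eq_two.1
    (show (T.erase (trivChar G)).card = 2 by rw [Finset.card_erase_of_mem h0, hcard])
  have hf : f ∈ T.erase (trivChar G) := by simp [hpair]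
  have hx : x ∈ T.erase (trivChar G) := by simp [hpair]
  simp only [Finset.mem_erase, hT, Finset.mem_filter, Finset.mem_univ, true_and] at hf hx
  have hrest : ∀ χ, χ ≠ trivChar G → χ ≠ f → χ ≠ x → m χ = 0 := fun χ a b d => by
    by_contra hχ
    have : χ ∈ ({f, x} : Finset (Cfsg.IrrCharacter G)) := hpair ▸ by simp [hT, a, hχ]
    simp [b, d] at this
  refine ⟨⟨f, x, m f, m x, (hle f).resolve_left hf.2, (hle x).resolve_left hx.2, hne, hf.1, hx.1,
    fun g => ?_, by rw [hmi, hm0, Int.cast_one], hmi f, hmi x,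
    fun χ a b d => by rw [hmi, hrest χ a b d, Int.cast_zero]⟩⟩
  conv_lhs => rw [hm]
  rw [Finset.sum_apply, ← Finset.sum_subset (Finset.subset_univ ({trivChar G, f, x} : Finset _))
    fun χ _ hχ => ?_]
  · rw [Finset.sum_insert (by simp [Ne.symm hf.1, Ne.symm hx.1]), Finset.sum_pair hne]
    simp [hm0, add_assoc]
  · simp only [Finset.mem_insert, Finset.mem_singleton, not_or] at hχ
    simp [hrest χ hχ.1 hχ.2.1 hχ.2.2]

namespace Triple

variable {θ : G → ℂ} (t : Triple θ)

/-- The inner product with a function. -/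
theorem inner_right (η : G → ℂ) : Cfsg.classInner η θ =
    Cfsg.classInner η (trivChar G : G → ℂ) + (t.ε : ℂ) * Cfsg.classInner η (t.f : G → ℂ) +
      (t.ε' : ℂ) * Cfsg.classInner η (t.x : G → ℂ) := by
  have e : θ = (trivChar G : G → ℂ) + (t.ε : ℂ) • (t.f : G → ℂ) + (t.ε' : ℂ) • (t.x : G → ℂ) :=
    funext fun g => by simp [t.apply_eq g]
  conv_lhs => rw [e]
  rw [classInner_add_right, classInner_add_right, classInner_smul_right, classInner_smul_right,
    map_intCast, map_intCast]

/-- The degrees: a relation, and neither is one. -/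
theorem degrees [IsSimpleGroup G] (hG : ¬ IsMulCommutative G) (hθ1 : θ 1 = 0) :
    ∃ F X : ℕ, (t.f : G → ℂ) 1 = F ∧ (t.x : G → ℂ) 1 = X ∧ 1 < F ∧ 1 < X ∧
      1 + t.ε * (F : ℤ) + t.ε' * (X : ℤ) = 0 := by
  obtain ⟨F, hF0, hF⟩ := exists_degree_pos t.f.2
  obtain ⟨X, hX0, hX⟩ := exists_degree_pos t.x.2
  have hnc : ∃ a b : G, a * b ≠ b * a := by
    by_contra h
    push Not at h
    exact hG ⟨⟨h⟩⟩
  have h1 : ∀ (χ : Cfsg.IrrCharacter G) (n : ℕ), χ ≠ trivChar G → 0 < n →
      (χ : G → ℂ) 1 = n → 1 < n := by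
    intro χ n hχ hn h
    by_contra hle
    obtain rfl : n = 1 := by omega
    exact hχ (Subtype.ext ((Cfsg.Agent.S3278.degree_ne_one hnc χ (by simpa using h)).trans
      (funext fun _ => rfl)))
  refine ⟨F, X, hF, hX, h1 _ _ t.f_ne hF0 hF, h1 _ _ t.x_ne hX0 hX, ?_⟩
  have h := t.apply_eq 1
  rw [hθ1, hF, hX] at h
  exact_mod_cast h.symm

end Triple

end CfsgLib.NineTwoQ
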