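import Cfsg.Agent.NineTwoQ.Section
import Cfsg.Agent.Characters.BrauerInduction
import Cfsg.Agent.Characters.Generalized
import Cfsg.Agent.CharactersDeep.SectionFun

/-!
# Functions of the 3-part

An invariant generalized character of the Sylow subgroup extends, composed with the projection on
the 3-part, to a generalized character of the group.
-/

set_option autoImplicit false
set_option linter.style.haveILetI false
set_option linter.unusedSectionVars false

namespace CfsgLib.NineTwoQ.Ctx

open CfsgLib.Characters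
open scoped ComplexConjugate

universe u

variable {G : Type u} [Group G] [Fintype G] (c : Ctx G)

/-- The function of the 3-part. -/
noncomputable def lift (φ : G → ℂ) (g : G) : ℂ := φ (c.exists_conj_pow_κ g).choose

/-- Invariance under the normaliser. -/
def Invariant (φ : G → ℂ) : Prop :=
  ∀ a ∈ (c.R : Subgroup G), ∀ n ∈ Subgroup.normalizer ((c.R : Subgroup G) : Set G),
    φ (n * a * n⁻¹) = φ a

variable {c}

theorem lift_eq {φ : G → ℂ} (hφ : c.Invariant φ) {g r : G} (hr : r ∈ (c.R : Subgroup G))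
    (h : IsConj (g ^ c.κ) r) : c.lift φ g = φ r := by
  obtain ⟨hk, hc⟩ := (c.exists_conj_pow_κ g).choose_spec
  obtain ⟨n, hn, he⟩ := c.exists_normalizer_conj hr hk (h.symm.trans hc)
  show φ (c.exists_conj_pow_κ g).choose = φ r
  rw [← he]
  exact hφ r hr n hn

theorem isGen_lift {φ : G → ℂ} (hφ : c.Invariant φ)
    (hgen : Cfsg.IsGeneralizedCharacter (c.R : Subgroup G) fun a => φ a) :
    Cfsg.IsGeneralizedCharacter G (c.lift φ) := by
  haveI : Fact (Nat.Prime 3) := ⟨Nat.prime_three⟩
  refine isGen_of_elementary (fun g h => ?_) fun E p hp hE => ?_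
  · obtain ⟨k, hk, hc⟩ := c.exists_conj_pow_κ g
    rw [lift_eq hφ hk hc, lift_eq hφ hk
      (show IsConj ((h * g * h⁻¹) ^ c.κ) k by
        rw [conj_pow]; exact (isConj_iff.2 ⟨h, rfl⟩ : IsConj (g ^ c.κ) _).symm.trans hc)]
  · obtain ⟨f, hf⟩ := CharactersDeep.SectionFun.exists_powHom hp hE
      (c.card_G ▸ Subgroup.card_subgroup_dvd_card E) c.coprime c.κ_zero c.κ_one
    have hP : IsPGroup 3 (f.range.map E.subtype : Subgroup G) := by
      refine IsPGroup.map ?_ _
      rintro ⟨_, y, rfl⟩
      refine ⟨2, Subtype.ext ?_⟩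
      show (f y) ^ (3 ^ 2) = 1
      rw [hf]
      exact Subtype.ext (by simpa using c.pow_κ_nine (y : G))
    obtain ⟨Q, hQ⟩ := hP.exists_le_sylow
    obtain ⟨a, ha⟩ := MulAction.exists_smul_eq G Q c.R
    have hmem : ∀ e : E, a * ((f e : E) : G) * a⁻¹ ∈ (c.R : Subgroup G) := fun e => by
      rw [← ha, Sylow.coe_subgroup_smul]
      exact ⟨_, hQ ⟨f e, ⟨e, rfl⟩, rfl⟩, rfl⟩
    let ι : E →* (c.R : Subgroup G) :=
      MonoidHom.mk' (fun e => ⟨a * ((f e : E) : G) * a⁻¹, hmem e⟩) fun e e' =>
        Subtype.ext (by simp [map_mul, mul_assoc])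
    have hres : (fun e : E => c.lift φ (e : G)) = fun e => φ ((ι e : (c.R : Subgroup G)) : G) := by
      funext e
      refine lift_eq hφ (hmem e) ?_
      show IsConj ((e : G) ^ c.κ) (a * ((f e : E) : G) * a⁻¹)
      rw [hf]
      exact isConj_iff.2 ⟨a, by simp⟩
    rw [hres]
    exact isGen_comp ι hgen

theorem lift_of_pow_κ_eq_one {φ : G → ℂ} (hφ : c.Invariant φ) {g : G} (hg : g ^ c.κ = 1) :
    c.lift φ g = φ 1 :=
  lift_eq hφ (one_mem _) (by rw [hg])

theorem invariant_mul {φ ψ : G → ℂ} (h₁ : c.Invariant φ) (h₂ : c.Invariant ψ) :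
    c.Invariant (φ * ψ) := fun a ha n hn => by
  simp only [Pi.mul_apply, h₁ a ha n hn, h₂ a ha n hn]

theorem lift_mul {φ ψ : G → ℂ} : c.lift (φ * ψ) = c.lift φ * c.lift ψ := rfl

variable (c)

open Classical in
/-- The index multiple of the complement of `H` in the Sylow subgroup. -/
noncomputable def off (H : Subgroup G) (d : ℕ) : G → ℂ := fun a => if a ∈ H then 0 else (d : ℂ)

variable {c}

theorem invariant_off {H : Subgroup G} (d : ℕ)
    (hH : ∀ n ∈ Subgroup.normalizer ((c.R : Subgroup G) : Set G),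
      ∀ a ∈ (c.R : Subgroup G), n * a * n⁻¹ ∈ H ↔ a ∈ H) : c.Invariant (off H d) := by
  classical
  intro a ha n hn
  simp only [off]
  rw [if_congr (hH n hn a ha) rfl rfl]

theorem isGen_off (H : Subgroup G) (hH : H ≤ (c.R : Subgroup G)) {d : ℕ}
    (hd : Nat.card H * d = 9) :
    Cfsg.IsGeneralizedCharacter (c.R : Subgroup G) fun a => off H d a := by
  classical
  haveI : Fintype (c.R : Subgroup G) := Fintype.ofFinite _
  set K := H.subgroupOf (c.R : Subgroup G)
  have hK : Nat.card K = Nat.card H := Nat.card_congr (Subgroup.subgroupOfEquivOfLe hH).toEquiv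
  have hind : ∀ a : (c.R : Subgroup G), Cfsg.indFun K (fun _ => 1) a =
      if (a : G) ∈ H then (d : ℂ) else 0 := by
    intro a
    have hx : ∀ x : (c.R : Subgroup G), x⁻¹ * a * x = a := fun x => by
      rw [mul_assoc, show a * x = x * a from Subtype.ext (c.comm a.2 x.2), inv_mul_cancel_left]
    simp only [Cfsg.indFun, hx, Finset.sum_const, Finset.card_univ, ← Nat.card_eq_fintype_card,
      c.card_R, nsmul_eq_mul]
    by_cases ha : (a : G) ∈ H
    · rw [extendByZero_of_mem K _ (Subgroup.mem_subgroupOf.2 ha), if_pos ha, mul_one, hK, ← hd,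
        Nat.cast_mul, ← mul_assoc, inv_mul_cancel₀ (Nat.cast_ne_zero.2 Nat.card_pos.ne'), one_mul]
    · rw [extendByZero_of_not_mem K _ fun h => ha (Subgroup.mem_subgroupOf.1 h), if_neg ha,
        mul_zero, mul_zero]
  have h := isGen_sub (isGen_zsmul (isGen_one (G := (c.R : Subgroup G))) (d : ℤ))
    (isGen_indFun K (isGen_one (G := K)))
  convert h using 1
  funext a
  simp only [Pi.sub_apply, Pi.smul_apply, smul_eq_mul, mul_one, hind, off, Int.cast_natCast]
  split_ifs <;> simp

theorem off_one (H : Subgroup G) (d : ℕ) : off H d 1 = 0 := by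
  simp [off, one_mem H]

/-- The inner product with the principal character is the mean. -/
theorem classInner_one (θ : G → ℂ) :
    Cfsg.classInner θ (fun _ : G => (1 : ℂ)) = (Nat.card G : ℂ)⁻¹ * ∑ g : G, θ g := by
  simp [Cfsg.classInner]

theorem conj_lift_off (H : Subgroup G) (d : ℕ) (g : G) :
    conj (c.lift (off H d) g) = c.lift (off H d) g := by
  simp only [lift, off]
  split_ifs <;> simp

/-- The self inner product of an off-function. -/
theorem classInner_lift_self (H : Subgroup G) (d : ℕ) :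
    Cfsg.classInner (c.lift (off H d)) (c.lift (off H d)) =
      (d : ℂ) * Cfsg.classInner (c.lift (off H d)) (fun _ : G => (1 : ℂ)) := by
  rw [classInner_one]
  simp only [Cfsg.classInner, conj_lift_off]
  simp only [Finset.mul_sum]
  refine Finset.sum_congr rfl fun g _ => ?_
  simp only [lift, off]
  split_ifs <;> ring

/-- Coprime powers do not change the lift. -/
theorem lift_off_pow {H : Subgroup G} {d : ℕ}
    (hH : ∀ n ∈ Subgroup.normalizer ((c.R : Subgroup G) : Set G),
      ∀ a ∈ (c.R : Subgroup G), n * a * n⁻¹ ∈ H ↔ a ∈ H) (g : G) {k : ℕ}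
    (hk : k.Coprime (Nat.card G)) : c.lift (off H d) (g ^ k) = c.lift (off H d) g := by
  classical
  obtain ⟨r, hr, hc⟩ := c.exists_conj_pow_κ g
  rw [lift_eq (invariant_off d hH) hr hc, lift_eq (invariant_off d hH) (pow_mem hr k) (by
    rw [← pow_mul, mul_comm, pow_mul]
    exact hc.pow k)]
  simp only [off]
  refine if_congr ⟨fun h => ?_, fun h => pow_mem h k⟩ rfl rfl
  obtain ⟨j, hj⟩ := exists_pow_eq_self_of_coprime (n := k) (x := r)
    (Nat.Coprime.coprime_dvd_right (orderOf_dvd_natCard r) hk)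
  rw [← hj]
  exact pow_mem h j

end CfsgLib.NineTwoQ.Ctx
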