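import Cfsg.Agent.NineTwoQ.Automizer
import Cfsg.Agent.NineTwoQ.Lift
import Cfsg.Agent.NineTwoQ.Decomp

/-!
# The lift of a nonprincipal character of the Sylow subgroup: the inverted case
-/

set_option autoImplicit false
set_option linter.style.haveILetI false
set_option linter.unusedSectionVars false

namespace CfsgLib.NineTwoQ

open CfsgLib.Characters CfsgLib.PrincipalBlock Ctx
open scoped ComplexConjugate

universe u

variable {G : Type u} [Group G] [Fintype G]

/-- What both kinds of automizer provide: an invariant subgroup of order three whose lift is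
`1 + εf + ε'x`, with `f` and `x` seen by the 3-singular elements. -/
structure Good (c : Ctx G) where
  L : Subgroup G
  inv : ∀ n ∈ Subgroup.normalizer ((c.R : Subgroup G) : Set G),
    ∀ a ∈ (c.R : Subgroup G), n * a * n⁻¹ ∈ L ↔ a ∈ L
  gen : Cfsg.IsGeneralizedCharacter G (c.lift (off L 3))
  t : Triple (c.lift (off L 3))
  sing_f : Cfsg.classInner (c.lift (off ⊥ 9)) (t.f : G → ℂ) ≠ 0
  sing_x : Cfsg.classInner (c.lift (off ⊥ 9)) (t.x : G → ℂ) ≠ 0

variable {c : Ctx G}

theorem bot_inv : ∀ n ∈ Subgroup.normalizer ((c.R : Subgroup G) : Set G),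
    ∀ a ∈ (c.R : Subgroup G), n * a * n⁻¹ ∈ (⊥ : Subgroup G) ↔ a ∈ (⊥ : Subgroup G) :=
  fun n _ a _ => by simp

theorem isGen_lift_bot : Cfsg.IsGeneralizedCharacter G (c.lift (off ⊥ 9)) :=
  Ctx.isGen_lift (Ctx.invariant_off 9 bot_inv)
    (Ctx.isGen_off ⊥ bot_le (by rw [Subgroup.card_bot, one_mul]))

/-- On the support of `off L 3` the function `off ⊥ 9` is constant. -/
theorem lift_bot_mul (L : Subgroup G) (g : G) :
    c.lift (off ⊥ 9) g * c.lift (off L 3) g = 9 * c.lift (off L 3) g := by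
  simp only [Ctx.lift, off, Subgroup.mem_bot]
  split_ifs with h1 h2 <;> try simp
  exact absurd (h1 ▸ one_mem L) h2

theorem inner_bot_lift (L : Subgroup G) :
    Cfsg.classInner (c.lift (off ⊥ 9)) (c.lift (off L 3)) =
      9 * Cfsg.classInner (c.lift (off L 3)) (fun _ : G => (1 : ℂ)) := by
  rw [Ctx.classInner_one]
  simp only [Cfsg.classInner, Ctx.conj_lift_off, Finset.mul_sum]
  refine Finset.sum_congr rfl fun g _ => ?_
  rw [lift_bot_mul]
  ring

namespace Inverted

variable (I : Inverted c)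
include I

theorem ne_inv {a : G} (ha : a ∈ (c.R : Subgroup G)) (ha1 : a ≠ 1) : a ≠ a⁻¹ := fun h => by
  have h2 : a ^ 2 = 1 := by rw [pow_two]; exact mul_eq_one_iff_eq_inv.2 h
  have h3 := orderOf_dvd_of_pow_eq_one h2
  have h4 := c.orderOf_dvd ha
  have : orderOf a ∣ 1 := by
    rw [show (1 : ℕ) = Nat.gcd 2 9 from rfl]
    exact Nat.dvd_gcd h3 h4
  exact ha1 (orderOf_eq_one_iff.1 (Nat.dvd_one.1 this))

theorem nine_mul_card_sec {a : G} (ha : a ∈ (c.R : Subgroup G)) (ha1 : a ≠ 1) :
    9 * (c.sec a).card = Nat.card G := by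
  refine c.nine_mul_card_sec ha fun n hn he => ?_
  rcases I.act n hn with h | h
  · exact Subgroup.mem_centralizer_iff.2 fun b hb => (mul_inv_eq_iff_eq_mul.1 (h b hb)).symm
  · exact absurd (he.symm.trans (h a ha)) (I.ne_inv ha ha1)

theorem conj_mem_iff {a b : G} (ha : a ∈ (c.R : Subgroup G)) (hb : b ∈ (c.R : Subgroup G)) :
    IsConj a b ↔ b = a ∨ b = a⁻¹ := by
  constructor
  · intro h
    obtain ⟨n, hn, rfl⟩ := c.exists_normalizer_conj ha hb h
    exact (I.act n hn).imp (fun e => e a ha) fun e => e a ha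
  · rintro (rfl | rfl)
    · exact IsConj.refl _
    · exact I.inv a ha

open Classical in
/-- The total of the lift of an off-function. -/
theorem sum_lift_off (H : Subgroup G) (d : ℕ) (hH : H ≤ (c.R : Subgroup G)) :
    18 * ∑ g : G, c.lift (off H d) g =
      (Nat.card G : ℂ) * ((d : ℂ) * ((9 : ℂ) - Nat.card H)) := by
  have hinv : c.Invariant (off H d) := Ctx.invariant_off d fun n hn a ha => by
    rcases I.act n hn with h | h <;> rw [h a ha]
    exact inv_mem_iff
  set RS := Finset.univ.filter fun a : G => a ∈ (c.R : Subgroup G)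
  have key : ∀ g : G, 2 * c.lift (off H d) g =
      ∑ k ∈ RS, if g ∈ c.sec k then off H d k else 0 := by
    intro g
    obtain ⟨r, hr, hc⟩ := c.exists_conj_pow_κ g
    rw [Ctx.lift_eq hinv hr hc, ← Finset.sum_filter]
    have hmem : ∀ k, k ∈ RS.filter (fun k => g ∈ c.sec k) ↔ k = r ∨ k = r⁻¹ := by
      intro k
      simp only [RS, Finset.mem_filter, Finset.mem_univ, true_and, c.mem_sec]
      constructor
      · rintro ⟨hk, h⟩
        exact (I.conj_mem_iff hr hk).1 (hc.symm.trans h)
      · rintro (rfl | rfl)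
        · exact ⟨hr, hc⟩
        · exact ⟨inv_mem hr, hc.trans (I.inv r hr)⟩
    by_cases hr1 : r = 1
    · subst hr1
      rw [show RS.filter (fun k => g ∈ c.sec k) = {1} by ext k; simp [hmem], Finset.sum_singleton]
      simp [off, one_mem H]
    · rw [show RS.filter (fun k => g ∈ c.sec k) = {r, r⁻¹} by ext k; simp [hmem],
        Finset.sum_pair (I.ne_inv hr hr1)]
      simp only [off, inv_mem_iff]
      ring
  have hsec : ∀ k ∈ RS, ∑ g : G, (if g ∈ c.sec k then off H d k else 0) * 9 =
      off H d k * (Nat.card G : ℂ) := by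
    intro k hk
    simp only [RS, Finset.mem_filter, Finset.mem_univ, true_and] at hk
    rw [← Finset.sum_mul, Finset.sum_ite_mem, Finset.univ_inter, Finset.sum_const, nsmul_eq_mul]
    by_cases hk1 : k = 1
    · simp [hk1, off, one_mem H]
    · rw [← I.nine_mul_card_sec hk hk1]
      push_cast
      ring
  have hcount : ∑ k ∈ RS, off H d k = (d : ℂ) * ((9 : ℂ) - Nat.card H) := by
    simp only [off]
    rw [Finset.sum_ite, Finset.sum_const_zero, zero_add, Finset.sum_const, nsmul_eq_mul]
    have h1 : (RS.filter (fun a => a ∈ H)).card = Nat.card H := by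
      rw [Nat.card_eq_fintype_card, Fintype.card_subtype]
      congr 1
      ext a
      simp only [RS, Finset.mem_filter, Finset.mem_univ, true_and]
      exact ⟨fun h => h.2, fun h => ⟨hH h, h⟩⟩
    have h2 : RS.card = 9 := by
      rw [← c.card_R, Nat.card_eq_fintype_card, Fintype.card_subtype]
    have h3 := RS.card_filter_add_card_filter_not (fun a => a ∈ H)
    rw [h1, h2] at h3
    rw [show ((RS.filter fun a => ¬ a ∈ H).card : ℂ) = (9 : ℂ) - Nat.card H by
      rw [eq_sub_iff_add_eq]
      exact_mod_cast by omega]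
    ring
  calc 18 * ∑ g : G, c.lift (off H d) g = ∑ g : G, (2 * c.lift (off H d) g) * 9 := by
        rw [Finset.mul_sum]
        exact Finset.sum_congr rfl fun g _ => by ring
    _ = ∑ g : G, ∑ k ∈ RS, (if g ∈ c.sec k then off H d k else 0) * 9 :=
        Finset.sum_congr rfl fun g _ => by rw [key g, Finset.sum_mul]
    _ = ∑ k ∈ RS, ∑ g : G, (if g ∈ c.sec k then off H d k else 0) * 9 := Finset.sum_comm
    _ = ∑ k ∈ RS, off H d k * (Nat.card G : ℂ) := Finset.sum_congr rfl hsec
    _ = _ := by rw [← Finset.sum_mul, hcount]; ring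

theorem exists_good : Nonempty (Good c) := by
  classical
  haveI : Fact (Nat.Prime 3) := ⟨Nat.prime_three⟩
  obtain ⟨L, hL3⟩ := Sylow.exists_subgroup_card_pow_prime (G := (c.R : Subgroup G)) 3 (n := 1)
    (by rw [c.card_R]; norm_num)
  set M : Subgroup G := L.map (c.R : Subgroup G).subtype
  have hM : M ≤ (c.R : Subgroup G) := Subgroup.map_subtype_le L
  have hMcard : Nat.card M = 3 := by
    rw [Subgroup.card_map_of_injective (Subgroup.subtype_injective _), hL3, pow_one]
  have hinv : ∀ n ∈ Subgroup.normalizer ((c.R : Subgroup G) : Set G),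
      ∀ a ∈ (c.R : Subgroup G), n * a * n⁻¹ ∈ M ↔ a ∈ M := fun n hn a ha => by
    rcases I.act n hn with h | h <;> rw [h a ha]
    exact inv_mem_iff
  have hgen : Cfsg.IsGeneralizedCharacter G (c.lift (off M 3)) :=
    Ctx.isGen_lift (Ctx.invariant_off 3 hinv) (Ctx.isGen_off M hM (by rw [hMcard]))
  have h1 : Cfsg.classInner (c.lift (off M 3)) (fun _ : G => (1 : ℂ)) = 1 := by
    have h := I.sum_lift_off M 3 hM
    rw [hMcard] at h
    push_cast at h
    rw [Ctx.classInner_one, inv_mul_eq_one₀ (Characters.natCard_ne_zero)]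
    linear_combination -h / 18
  obtain ⟨t⟩ := exists_triple hgen (by rw [Ctx.classInner_lift_self, h1]; norm_num) h1
  obtain ⟨e, he, hei⟩ := exists_int_coeff (isGen_lift_bot (c := c))
  have h4 : Cfsg.classInner (c.lift (off ⊥ 9)) (fun _ : G => (1 : ℂ)) = 4 := by
    have h := I.sum_lift_off ⊥ 9 bot_le
    rw [Subgroup.card_bot] at h
    push_cast at h
    rw [Ctx.classInner_one, inv_mul_eq_iff_eq_mul₀ Characters.natCard_ne_zero]
    linear_combination h / 18
  have hsq : ∑ χ, e χ ^ 2 = 36 := by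
    have := (classInner_self_eq_sum_sq (isClassFunction_of_isGen isGen_lift_bot) e hei).symm.trans
      (by rw [Ctx.classInner_lift_self, h4]; norm_num :
        Cfsg.classInner (c.lift (off ⊥ 9)) (c.lift (off ⊥ 9)) = 36)
    exact_mod_cast this
  have he0 : e (trivChar G) = 4 := by
    have h := (hei (trivChar G)).symm.trans
      (show Cfsg.classInner (c.lift (off ⊥ 9)) (trivChar G : G → ℂ) = 4 from h4)
    exact_mod_cast h
  have hlin : 4 + t.ε * e t.f + t.ε' * e t.x = 9 := by
    have h := t.inner_right (c.lift (off ⊥ 9))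
    rw [inner_bot_lift, h1, hei, hei, hei, he0] at h
    exact_mod_cast (by rw [← mul_one (9 : ℂ)]; exact h.symm :
      ((4 : ℤ) : ℂ) + (t.ε : ℂ) * (e t.f : ℂ) + (t.ε' : ℂ) * (e t.x : ℂ) = 9)
  have hbound : e t.f ^ 2 + e t.x ^ 2 ≤ 20 := by
    have hle := Finset.sum_le_sum_of_subset_of_nonneg (f := fun χ => e χ ^ 2)
      (Finset.subset_univ ({trivChar G, t.f, t.x} : Finset (Cfsg.IrrCharacter G)))
      fun _ _ _ => sq_nonneg _
    rw [Finset.sum_insert (by simp [Ne.symm t.f_ne, Ne.symm t.x_ne]), Finset.sum_pair t.ne,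
      he0, hsq] at hle
    linarith
  refine ⟨⟨M, hinv, hgen, t, ?_, ?_⟩⟩ <;> rw [hei] <;> intro h0 <;>
    replace h0 := Int.cast_eq_zero.1 h0 <;> rw [h0] at hlin hbound
  · rcases t.hε' with e1 | e1 <;> rw [e1] at hlin <;> nlinarith
  · rcases t.hε with e1 | e1 <;> rw [e1] at hlin <;> nlinarith

end Inverted

end CfsgLib.NineTwoQ
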