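import Mathlib.Algebra.Ring.GeomSum
import Mathlib.NumberTheory.Divisors
import Mathlib.Tactic

/-!
# A prime power next to a power of two
-/

set_option autoImplicit false

namespace CfsgLib.NineTwoQ

theorem two_mul_succ_dvd_sq_pow_sub (q m : ℕ) (hq : Odd q) :
    2 * (q + 1) ∣ q ^ (2 * m) - 1 ∧ 2 * (q - 1) ∣ q ^ (2 * m) - 1 := by
  have h : q ^ 2 - 1 ∣ q ^ (2 * m) - 1 := by
    rw [pow_mul]
    simpa using Nat.sub_dvd_pow_sub_pow (q ^ 2) 1 m
  have e : q ^ 2 - 1 = (q + 1) * (q - 1) := by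
    have := Nat.sq_sub_sq q 1
    simpa using this
  obtain ⟨t, rfl⟩ := hq
  rw [e] at h
  constructor
  · exact Dvd.dvd.trans ⟨t, by rw [show 2 * t + 1 - 1 = 2 * t by omega]; ring⟩ h
  · exact Dvd.dvd.trans ⟨t + 1, by ring⟩ h

theorem eq_of_two_pow_odd_part {i k s : ℕ} (h : 2 ^ i = 2 ^ k * (2 * s + 1)) : i = k := by
  have hd : 2 * s + 1 ∣ 2 ^ i := ⟨2 ^ k, by rw [h, mul_comm]⟩
  obtain ⟨l, -, hl⟩ := (Nat.dvd_prime_pow Nat.prime_two).1 hd
  rcases l with _ | l
  · rw [hl, pow_zero, mul_one] at h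
    exact Nat.pow_right_injective le_rfl h
  · rw [pow_succ] at hl
    omega

/-- The elementary case of Catalan: a prime power next to a power of two is a prime, unless it is
nine. -/
theorem exponent_eq_one {q j i : ℕ} (hq : q.Prime) (hq2 : q ≠ 2) (hq3 : q ≠ 3) (hj : 0 < j)
    (h : q ^ j + 1 = 2 ^ i ∨ q ^ j = 2 ^ i + 1) : j = 1 := by
  have hodd : Odd q := hq.odd_of_ne_two hq2
  have hq5 : 5 ≤ q := by
    have := hq.two_le
    by_contra hlt
    interval_cases q <;> first | contradiction | omega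
  rcases Nat.even_or_odd j with hje | hjo
  · exfalso
    obtain ⟨m, rfl⟩ := hje
    rcases h with h | h
    · have h4 : q ^ (m + m) % 4 = 1 := by
        rw [← two_mul, pow_mul, Nat.pow_mod,
          show q ^ 2 % 4 = 1 by
            obtain ⟨t, rfl⟩ := hodd
            rw [Nat.pow_mod]
            have : (2 * t + 1) % 4 = 1 ∨ (2 * t + 1) % 4 = 3 := by omega
            rcases this with e | e <;> rw [e],
          one_pow, Nat.one_mod]
      have h5 : 5 ≤ q ^ (m + m) := hq5.trans (Nat.le_self_pow (by omega) q)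
      rcases i with _ | _ | i
      · rw [pow_zero] at h; omega
      · rw [pow_one] at h; omega
      · have : 4 ∣ 2 ^ (i + 2) := ⟨2 ^ i, by ring⟩
        omega
    · have hm : 0 < m := by omega
      have h5 : 5 ≤ q ^ m := hq5.trans (Nat.le_self_pow (by omega) q)
      have he : (q ^ m + 1) * (q ^ m - 1) = 2 ^ i := by
        obtain ⟨r, hr⟩ : ∃ r, q ^ m = r + 1 := ⟨q ^ m - 1, by omega⟩
        rw [pow_add, hr] at h
        rw [hr, Nat.add_sub_cancel]
        linarith
      obtain ⟨a, -, ha⟩ := (Nat.dvd_prime_pow Nat.prime_two).1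
        (show q ^ m + 1 ∣ 2 ^ i from ⟨_, he.symm⟩)
      obtain ⟨b, -, hb⟩ := (Nat.dvd_prime_pow Nat.prime_two).1
        (show q ^ m - 1 ∣ 2 ^ i from ⟨_, by rw [mul_comm]; exact he.symm⟩)
      rcases b with _ | _ | b
      · rw [pow_zero] at hb; omega
      · rw [pow_one] at hb; omega
      · have h4b : 4 ∣ q ^ m - 1 := ⟨2 ^ b, by rw [hb]; ring⟩
        rcases a with _ | _ | a
        · rw [pow_zero] at ha; omega
        · rw [pow_one] at ha; omega
        · have h4a : 4 ∣ q ^ m + 1 := ⟨2 ^ a, by rw [ha]; ring⟩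
          omega
  · obtain ⟨m, rfl⟩ := hjo
    obtain ⟨hp, hm⟩ := two_mul_succ_dvd_sq_pow_sub q m hodd
    have hone : 1 ≤ q ^ (2 * m) := Nat.one_le_pow _ _ hq.pos
    rcases h with h | h
    · obtain ⟨s, hs⟩ := hp
      have e : 2 ^ i = (q + 1) * (2 * (q * s) + 1) := by
        rw [← h, pow_succ, show q ^ (2 * m) = 2 * (q + 1) * s + 1 by omega]
        ring
      obtain ⟨k, -, hk⟩ := (Nat.dvd_prime_pow Nat.prime_two).1
        (show q + 1 ∣ 2 ^ i from ⟨_, e⟩)
      rw [hk] at e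
      rw [eq_of_two_pow_odd_part e, ← hk] at h
      exact Nat.pow_right_injective hq.two_le
        (show q ^ (2 * m + 1) = q ^ 1 by rw [pow_one]; omega)
    · obtain ⟨s, hs⟩ := hm
      have e : 2 ^ i = (q - 1) * (2 * (q * s) + 1) := by
        have h1 : q ^ (2 * m + 1) = (q - 1) * (2 * (q * s) + 1) + 1 := by
          rw [pow_succ, show q ^ (2 * m) = 2 * (q - 1) * s + 1 by omega]
          obtain ⟨r, rfl⟩ : ∃ r, q = r + 1 := ⟨q - 1, by omega⟩
          simp only [Nat.add_sub_cancel]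
          ring
        omega
      obtain ⟨k, -, hk⟩ := (Nat.dvd_prime_pow Nat.prime_two).1
        (show q - 1 ∣ 2 ^ i from ⟨_, e⟩)
      rw [hk] at e
      rw [eq_of_two_pow_odd_part e, ← hk] at h
      exact Nat.pow_right_injective hq.two_le
        (show q ^ (2 * m + 1) = q ^ 1 by rw [pow_one]; omega)

end CfsgLib.NineTwoQ
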