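import Cfsg.Agent.NineTwoQ.CaseAxes
import Cfsg.Agent.NineTwoQ.Numeric
import Cfsg.Agent.BlockDegrees.Regular
import Cfsg.Agent.BlockPairing.Heights
import Cfsg.Agent.PrincipalBlock.Basic
import Cfsg.Agent.GaloisConj.Basic

/-!
# Two rational characters of degrees a power of two and an adjacent prime
-/

set_option autoImplicit false
set_option linter.style.haveILetI false
set_option linter.unusedSectionVars false

namespace CfsgLib.NineTwoQ

open CfsgLib.Characters CfsgLib.PrincipalBlock Ctx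
open scoped ComplexConjugate

universe u

variable {G : Type u} [Group G] [Fintype G]

/-- The output of the 3-local argument: rational characters `A`, `B` of degrees `2 ^ i`, `q`, and a
generalized character `1 + εA + ε'B` with values `0`, `3` which vanishes at 3-regular elements. -/
structure Pair (c : Ctx G) (q : ℕ) where
  i : ℕ
  two_le : 2 ≤ i
  near : q + 1 = 2 ^ i ∨ q = 2 ^ i + 1
  A : Cfsg.IrrCharacter G
  B : Cfsg.IrrCharacter G
  A_one : (A : G → ℂ) 1 = (2 ^ i : ℕ)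
  B_one : (B : G → ℂ) 1 = q
  A_ne : A ≠ trivChar G
  B_ne : B ≠ trivChar G
  A_rat : ∀ (g : G) (k : ℕ), k.Coprime (Nat.card G) → (A : G → ℂ) (g ^ k) = (A : G → ℂ) g
  B_rat : ∀ (g : G) (k : ℕ), k.Coprime (Nat.card G) → (B : G → ℂ) (g ^ k) = (B : G → ℂ) g
  α : G → ℂ
  ε : ℤ
  ε' : ℤ
  hε : ε = 1 ∨ ε = -1
  hε' : ε' = 1 ∨ ε' = -1
  degree_eq : 1 + ε * (2 ^ i : ℕ) + ε' * (q : ℤ) = 0
  α_eq : ∀ g, α g = 1 + (ε : ℂ) * (A : G → ℂ) g + (ε' : ℂ) * (B : G → ℂ) g
  α_cases : ∀ g, α g = 0 ∨ α g = 3 ∧ 3 ∣ orderOf g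

variable {c : Ctx G}

/-- A character seen by the 3-singular elements has degree prime to three. -/
theorem not_three_dvd_degree (χ : Cfsg.IrrCharacter G) (hne : χ ≠ trivChar G)
    (h : Cfsg.classInner (c.lift (off ⊥ 9)) (χ : G → ℂ) ≠ 0) :
    ¬ 3 ∣ Cfsg.charDegree (χ : G → ℂ) := by
  classical
  haveI : Fact (Nat.Prime 3) := ⟨Nat.prime_three⟩
  obtain ⟨M, hM⟩ := Blocks.exists_isPModular 3 Nat.prime_three
  haveI := Blocks.IsPModular.isPrime hM
  have hB := isPBlock_principalBlock (M := M) (G := G)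
  have hmem : χ ∈ Cfsg.principalBlock M G := by
    by_contra hχ
    refine h ?_
    have h0 := BlockDegrees.regPair_eq_zero (ξ := χ) hM (Blocks.isBlockUnion_of_isPBlock hB)
      (trivChar_mem (M := M) (G := G)) hχ
    have hall : ∑ g : G, conj ((χ : G → ℂ) g) = 0 := by
      have h1 := classInner_irr (trivChar G) χ
      rw [if_neg (Ne.symm hne), Cfsg.classInner, mul_eq_zero] at h1
      simpa using h1.resolve_left (inv_ne_zero natCard_ne_zero)
    simp only [BlockDegrees.regPair, trivChar_apply] at h0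
    rw [Cfsg.classInner]
    have hpt : ∀ g : G, c.lift (off ⊥ 9) g * conj ((χ : G → ℂ) g) =
        9 * conj ((χ : G → ℂ) g) -
          9 * ((if 3 ∣ orderOf g then 0 else 1) * conj ((χ : G → ℂ) g)) := by
      intro g
      obtain ⟨r, hr, hc⟩ := c.exists_conj_pow_κ g
      rw [Ctx.lift_eq (Ctx.invariant_off 9 bot_inv) hr hc]
      by_cases hg : 3 ∣ orderOf g
      · have hr1 : r ≠ 1 := fun e => by
          rw [e, isConj_one_left] at hc
          exact (c.pow_κ_eq_one_iff g).1 hc hg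
        simp [off, hr1, hg]
      · rw [(c.pow_κ_eq_one_iff g).2 hg, isConj_one_right] at hc
        simp [off, ← hc, hg]
    rw [Finset.sum_congr rfl fun g _ => hpt g, Finset.sum_sub_distrib, ← Finset.mul_sum,
      ← Finset.mul_sum, hall, h0]
    simp
  intro h3
  have hv : (Nat.card G).factorization 3 = 2 := by
    rw [c.card_G, Nat.factorization_mul c.m_pos.ne' (by norm_num),
      Finsupp.add_apply, Nat.factorization_eq_zero_of_not_dvd c.not_dvd,
      show (9 : ℕ) = 3 ^ 2 by norm_num, Nat.Prime.factorization_pow Nat.prime_three,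
      Finsupp.single_eq_same, zero_add]
  have h1 := Nat.prime_three.factorization_pos_of_dvd (Blocks.charDegree_ne_zero χ) h3
  have h2 := BlockPairing.defect_le_of_defect_le_one hM hB hmem (by omega)
    (trivChar G) trivChar_mem
  rw [show Cfsg.charDegree ((trivChar G : Cfsg.IrrCharacter G) : G → ℂ) = 1 by
    simp [Cfsg.charDegree, trivChar], Nat.factorization_one] at h2
  simp only [Finsupp.coe_zero, Pi.zero_apply] at h2
  omega

/-- The three characters are fixed by the Galois group. -/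
theorem Good.rational [IsSimpleGroup G] (hG : ¬ IsMulCommutative G) (w : Good c) :
    ∀ (g : G) (k : ℕ), k.Coprime (Nat.card G) →
      (w.t.f : G → ℂ) (g ^ k) = (w.t.f : G → ℂ) g ∧ (w.t.x : G → ℂ) (g ^ k) = (w.t.x : G → ℂ) g := by
  classical
  intro g k hk
  obtain ⟨F, X, hF, hX, hF1, hX1, hdeg⟩ := w.t.degrees hG (by
    rw [Ctx.lift_of_pow_κ_eq_one (Ctx.invariant_off 3 w.inv) (one_pow _), Ctx.off_one])
  have hFX : F ≠ X := by
    intro e
    subst e
    rcases w.t.hε with e1 | e1 <;> rcases w.t.hε' with e2 | e2 <;> rw [e1, e2] at hdeg <;> omega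
  have key : ∀ χ : Cfsg.IrrCharacter G, (χ = w.t.f ∨ χ = w.t.x) →
      ∀ g : G, (χ : G → ℂ) (g ^ k) = (χ : G → ℂ) g := by
    intro χ hχ g
    set ψ : Cfsg.IrrCharacter G := ⟨_, GaloisConj.isIrrCharacter_pow χ.2 hk⟩ with hψ
    have hbij : Function.Bijective fun g : G => g ^ k :=
      (powCoprime (Nat.Coprime.symm hk)).bijective
    have hinner : Cfsg.classInner (c.lift (off w.L 3)) (ψ : G → ℂ) =
        Cfsg.classInner (c.lift (off w.L 3)) (χ : G → ℂ) := by
      simp only [Cfsg.classInner]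
      congr 1
      rw [← (Equiv.ofBijective _ hbij).sum_comp fun g => c.lift (off w.L 3) g * conj ((χ : G → ℂ) g)]
      refine Finset.sum_congr rfl fun g _ => ?_
      show c.lift (off w.L 3) g * conj ((χ : G → ℂ) (g ^ k)) = _
      rw [Equiv.ofBijective_apply, Ctx.lift_off_pow w.inv g hk]
    have hne0 : Cfsg.classInner (c.lift (off w.L 3)) (χ : G → ℂ) ≠ 0 := by
      rcases hχ with rfl | rfl
      · rw [w.t.inner_f]
        rcases w.t.hε with e | e <;> simp [e]
      · rw [w.t.inner_x]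
        rcases w.t.hε' with e | e <;> simp [e]
    have hdegψ : (ψ : G → ℂ) 1 = (χ : G → ℂ) 1 := by
      show (χ : G → ℂ) (1 ^ k) = _
      rw [one_pow]
    have hcases : ψ = trivChar G ∨ ψ = w.t.f ∨ ψ = w.t.x := by
      by_contra h
      push Not at h
      exact hne0 (hinner ▸ w.t.inner_rest ψ h.1 h.2.1 h.2.2)
    suffices ψ = χ from congrFun (congrArg Subtype.val this) g
    rcases hχ with rfl | rfl <;> rcases hcases with h | h | h <;>
      first
        | exact h
        | (exfalso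
           rw [h] at hdegψ
           simp only [trivChar_apply, hF, hX] at hdegψ
           first
             | exact hFX (by exact_mod_cast hdegψ)
             | exact hFX (by exact_mod_cast hdegψ.symm)
             | (have : F = 1 := by exact_mod_cast hdegψ.symm
                omega)
             | (have : X = 1 := by exact_mod_cast hdegψ.symm
                omega))
  exact ⟨key _ (Or.inl rfl) g, key _ (Or.inr rfl) g⟩

theorem pow_two_of_coprime {n a b q : ℕ} (hq : q.Prime) (hn : n ∣ 2 ^ a * q ^ b) (h : ¬ q ∣ n) :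
    ∃ i, n = 2 ^ i := by
  obtain ⟨i, -, hi⟩ := (Nat.dvd_prime_pow Nat.prime_two).1
    ((Nat.Coprime.pow_right b (hq.coprime_iff_not_dvd.2 h).symm).dvd_of_dvd_mul_right hn)
  exact ⟨i, hi⟩

/-- The degrees are a power of two and the prime. -/
theorem degree_cases {q a b F X : ℕ} (hq : q.Prime) (hq2 : q ≠ 2) (hq3 : q ≠ 3) (hF : 1 < F)
    (hX : 1 < X) (hFd : F ∣ 2 ^ a * q ^ b) (hXd : X ∣ 2 ^ a * q ^ b)
    (hrel : F + 1 = X ∨ X + 1 = F) :
    ∃ i, 2 ≤ i ∧ (q + 1 = 2 ^ i ∨ q = 2 ^ i + 1) ∧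
      ((F = 2 ^ i ∧ X = q) ∨ (X = 2 ^ i ∧ F = q)) := by
  have key : ∀ Y Z : ℕ, 1 < Y → 1 < Z → Y ∣ 2 ^ a * q ^ b → Z ∣ 2 ^ a * q ^ b →
      (Y + 1 = Z ∨ Z + 1 = Y) → ¬ 2 ∣ Z →
      ∃ i, 2 ≤ i ∧ (q + 1 = 2 ^ i ∨ q = 2 ^ i + 1) ∧ Y = 2 ^ i ∧ Z = q := by
    intro Y Z hY hZ hYd hZd hrel hodd
    obtain ⟨j, -, rfl⟩ := (Nat.dvd_prime_pow hq).1
      ((Nat.Coprime.pow_right a (Nat.prime_two.coprime_iff_not_dvd.2 hodd).symm).dvd_of_dvd_mul_left
        hZd)
    have hj : 0 < j := Nat.pos_of_ne_zero fun e => by rw [e, pow_zero] at hZ; omega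
    have hqY : ¬ q ∣ Y := fun hd => by
      have hd' := dvd_pow_self q hj.ne'
      have : q ∣ 1 := by
        rcases hrel with e | e
        · exact (Nat.dvd_add_right hd).1 (e ▸ hd')
        · exact (Nat.dvd_add_right hd').1 (e ▸ hd)
      exact hq.not_dvd_one this
    obtain ⟨i, rfl⟩ := pow_two_of_coprime hq hYd hqY
    obtain rfl := exponent_eq_one hq hq2 hq3 hj (i := i)
      (hrel.symm.imp id fun e => e.symm)
    rw [pow_one] at hrel ⊢
    refine ⟨i, ?_, hrel.symm.imp id fun e => e.symm, rfl, rfl⟩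
    have hq5 : 5 ≤ q := by
      have := hq.two_le
      by_contra hlt
      interval_cases q <;> first | contradiction | (exact absurd hq (by decide))
    by_contra hi
    interval_cases i <;> omega
  rcases Nat.even_or_odd X with h | h
  · obtain ⟨i, h1, h2, h3, h4⟩ := key X F hX hF hXd hFd hrel.symm (by
      obtain ⟨t, ht⟩ := h; omega)
    exact ⟨i, h1, h2, Or.inr ⟨h3, h4⟩⟩
  · obtain ⟨i, h1, h2, h3, h4⟩ := key F X hF hX hFd hXd hrel (by
      obtain ⟨t, ht⟩ := h; omega)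
    exact ⟨i, h1, h2, Or.inl ⟨h3, h4⟩⟩

theorem Good.exists_pair [IsSimpleGroup G] (hG : ¬ IsMulCommutative G) (w : Good c) {q a b : ℕ}
    (hq : q.Prime) (hq2 : q ≠ 2) (hq3 : q ≠ 3) (hcard : Nat.card G = 9 * 2 ^ a * q ^ b) :
    Nonempty (Pair c q) := by
  classical
  have hinv := Ctx.invariant_off (c := c) 3 w.inv
  obtain ⟨F, X, hF, hX, hF1, hX1, hdeg⟩ := w.t.degrees hG (by
    rw [Ctx.lift_of_pow_κ_eq_one hinv (one_pow _), Ctx.off_one])
  have hdiv : ∀ (χ : Cfsg.IrrCharacter G) (n : ℕ), χ ≠ trivChar G →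
      Cfsg.classInner (c.lift (off ⊥ 9)) (χ : G → ℂ) ≠ 0 → (χ : G → ℂ) 1 = n →
      n ∣ 2 ^ a * q ^ b := by
    intro χ n hne hs hn
    have he : Cfsg.charDegree (χ : G → ℂ) = n := by
      have := Blocks.charDegree_cast χ
      rw [hn] at this
      exact_mod_cast this
    have h1 := Blocks.charDegree_dvd_card χ
    have h3 := not_three_dvd_degree χ hne hs
    rw [he] at h1 h3
    rw [hcard, mul_assoc] at h1
    exact ((Nat.Coprime.pow_right 2 (Nat.prime_three.coprime_iff_not_dvd.2 h3).symm)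
      ).dvd_of_dvd_mul_left h1
  have hrel : F + 1 = X ∨ X + 1 = F := by
    rcases w.t.hε with e1 | e1 <;> rcases w.t.hε' with e2 | e2 <;> rw [e1, e2] at hdeg <;> omega
  obtain ⟨i, hi, hnear, hcase⟩ := degree_cases hq hq2 hq3 hF1 hX1
    (hdiv _ _ w.t.f_ne w.sing_f hF) (hdiv _ _ w.t.x_ne w.sing_x hX) hrel
  have hαc : ∀ g, c.lift (off w.L 3) g = 0 ∨ c.lift (off w.L 3) g = 3 ∧ 3 ∣ orderOf g := by
    intro g
    by_cases hg : 3 ∣ orderOf g
    · simp only [Ctx.lift, off]
      split_ifs with h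
      · exact Or.inl rfl
      · exact Or.inr ⟨by norm_num, hg⟩
    · left
      rw [Ctx.lift_of_pow_κ_eq_one hinv ((c.pow_κ_eq_one_iff g).2 hg), Ctx.off_one]
  have hrat := w.rational hG
  rcases hcase with ⟨rfl, rfl⟩ | ⟨rfl, rfl⟩
  · exact ⟨⟨i, hi, hnear, w.t.f, w.t.x, hF, hX, w.t.f_ne, w.t.x_ne, fun g k hk => (hrat g k hk).1,
      fun g k hk => (hrat g k hk).2, _, w.t.ε, w.t.ε', w.t.hε, w.t.hε', hdeg, w.t.apply_eq, hαc⟩⟩
  · exact ⟨⟨i, hi, hnear, w.t.x, w.t.f, hX, hF, w.t.x_ne, w.t.f_ne, fun g k hk => (hrat g k hk).2,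
      fun g k hk => (hrat g k hk).1, _, w.t.ε', w.t.ε, w.t.hε', w.t.hε, by linarith,
      fun g => by rw [w.t.apply_eq g]; ring, hαc⟩⟩

end CfsgLib.NineTwoQ
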