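import Cfsg.Agent.Small.DegreeInvolution
import Cfsg.Agent.SylowThreeNine.Values
import Cfsg.Agent.Characters.Burnside
import Cfsg.Agent.PrincipalBlock.Kernel

/-!
# Values at a 2-central involution and weighted class products
-/

set_option autoImplicit false
set_option linter.style.haveILetI false
set_option linter.unusedSectionVars false

namespace CfsgLib.NineTwoQ

open CfsgLib.Characters CfsgLib.PrincipalBlock
open scoped ComplexConjugate

universe u

variable {G : Type u} [Group G] [Fintype G] [IsSimpleGroup G]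

/-- A nonprincipal character of a simple group has full absolute value only at the identity. -/
theorem norm_apply_ne_degree (hG : ¬ IsMulCommutative G) (χ : Cfsg.IrrCharacter G)
    (hne : χ ≠ trivChar G) {n : ℕ} (hn : (χ : G → ℂ) 1 = n) {g : G} (hg : g ≠ 1) :
    ‖(χ : G → ℂ) g‖ ≠ (n : ℝ) := by
  classical
  intro hnorm
  obtain ⟨k, ρ, hρ, hχ⟩ := χ.2
  haveI := hρ
  have hdim : Module.finrank ℂ (Fin k → ℂ) = n := by
    have h := hn
    rw [← hχ, Representation.char_one] at h
    exact_mod_cast h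
  obtain ⟨ω, hω, -⟩ := exists_scalar_of_norm_char_eq ρ g (by rw [hχ, hnorm, hdim])
  have hker : (MonoidHom.ker (ρ : G →* Module.End ℂ (Fin k → ℂ))) = ⊥ := by
    refine ((MonoidHom.normal_ker _).eq_bot_or_eq_top).resolve_right fun h => hne ?_
    have hall : ∀ g : G, (χ : G → ℂ) g = n := fun g => by
      have hg' : (ρ : G →* Module.End ℂ (Fin k → ℂ)) g = 1 :=
        MonoidHom.mem_ker.1 (h ▸ Subgroup.mem_top g)
      rw [← hn, ← hχ, Representation.character, Representation.character,
        show ρ g = 1 from hg', map_one ρ]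
    have h1 := classInner_isIrr_self χ.2
    rw [Cfsg.classInner] at h1
    simp only [hall, map_natCast, Finset.sum_const, Finset.card_univ, nsmul_eq_mul] at h1
    rw [← mul_assoc, Nat.card_eq_fintype_card, inv_mul_cancel₀ (by simp), one_mul] at h1
    have h2 : n * n = 1 := by exact_mod_cast h1
    exact Subtype.ext (funext fun g => by
      rw [hall, Nat.eq_one_of_mul_eq_one_right h2, trivChar_apply, Nat.cast_one])
  have hcen : g ∈ Subgroup.center G := Subgroup.mem_center_iff.2 fun h => by
    have hρeq : (ρ : G →* Module.End ℂ (Fin k → ℂ)) (h * g) = ρ (g * h) := by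
      rw [map_mul, map_mul, hω]
      ext x
      simp
    exact (MonoidHom.ker_eq_bot_iff _).1 hker hρeq
  rw [Small.center_eq_bot_of_simple hG, Subgroup.mem_bot] at hcen
  exact hg hcen

/-- Burnside: a degree prime to the class size makes the value vanish. -/
theorem apply_eq_zero_of_coprime (hG : ¬ IsMulCommutative G) (χ : Cfsg.IrrCharacter G)
    (hne : χ ≠ trivChar G) {n : ℕ} (hn : (χ : G → ℂ) 1 = n) {g : G} (hg : g ≠ 1)
    (hcop : Nat.Coprime n (Subgroup.centralizer ({g} : Set G)).index) :
    (χ : G → ℂ) g = 0 := by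
  obtain ⟨k, ρ, hρ, hχ⟩ := χ.2
  haveI := hρ
  have hdim : Module.finrank ℂ (Fin k → ℂ) = n := by
    have h := hn
    rw [← hχ, Representation.char_one] at h
    exact_mod_cast h
  rw [← hχ]
  refine (char_zero_or_norm_of_coprime ρ g (by rw [hdim]; exact hcop)).resolve_right fun h => ?_
  rw [hdim, hχ] at h
  exact norm_apply_ne_degree hG χ hne hn hg h

omit [IsSimpleGroup G] in
/-- An involution in the centre of a Sylow 2-subgroup. -/
theorem exists_two_central {a m : ℕ} (ha : 0 < a) (hcard : Nat.card G = 2 ^ a * m) (hm : ¬ 2 ∣ m) :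
    ∃ z : G, orderOf z = 2 ∧ 2 ^ a ∣ Nat.card (Subgroup.centralizer ({z} : Set G)) ∧
      (Subgroup.centralizer ({z} : Set G)).index ∣ m := by
  haveI : Fact (Nat.Prime 2) := ⟨Nat.prime_two⟩
  obtain ⟨S⟩ : Nonempty (Sylow 2 G) := inferInstance
  have hm0 : m ≠ 0 := fun h => hm (h ▸ dvd_zero 2)
  have hS : Nat.card (S : Subgroup G) = 2 ^ a := by
    rw [S.card_eq_multiplicity, hcard, Nat.factorization_mul (by positivity) hm0,
      Finsupp.add_apply, Nat.factorization_eq_zero_of_not_dvd hm,
      Nat.prime_two.factorization_pow, Finsupp.single_eq_same, add_zero]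
  haveI : Nontrivial (S : Subgroup G) := Finite.one_lt_card_iff_nontrivial.1 (by
    rw [hS]; exact Nat.one_lt_two_pow ha.ne')
  haveI := S.isPGroup'.center_nontrivial
  obtain ⟨⟨w, hw⟩, hw2⟩ := exists_prime_orderOf_dvd_card' (G := Subgroup.center (S : Subgroup G)) 2 (by
    obtain ⟨j, hj⟩ := IsPGroup.iff_card.1 (S.isPGroup'.to_subgroup (Subgroup.center (S : Subgroup G)))
    have h1 := Finite.one_lt_card (α := Subgroup.center (S : Subgroup G))
    rw [hj] at h1 ⊢
    exact dvd_pow_self 2 fun e => by rw [e] at h1; simp at h1)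
  refine ⟨(w : G), by rwa [Subgroup.orderOf_mk, ← Subgroup.orderOf_coe] at hw2, ?_, ?_⟩
  · rw [← hS]
    exact Subgroup.card_dvd_of_le fun s hs => Subgroup.mem_centralizer_singleton_iff.2
      (congrArg Subtype.val (Subgroup.mem_center_iff.1 hw ⟨s, hs⟩))
  · have hle : (S : Subgroup G) ≤ Subgroup.centralizer ({(w : G)} : Set G) := fun s hs =>
      Subgroup.mem_centralizer_singleton_iff.2
        (congrArg Subtype.val (Subgroup.mem_center_iff.1 hw ⟨s, hs⟩))
    have hidx : (S : Subgroup G).index = m := by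
      have h := (S : Subgroup G).card_mul_index
      rw [hS, hcard] at h
      exact Nat.eq_of_mul_eq_mul_left (by positivity) h
    exact hidx ▸ Subgroup.index_dvd_of_le hle

omit [IsSimpleGroup G] in
/-- The number of ways to write `g` with two conjugates of `z`. -/
noncomputable def pairCount (z g : G) : ℕ := Nat.card {w : G // IsConj z w ∧ IsConj z (w⁻¹ * g)}

omit [IsSimpleGroup G] in
/-- Weighted totals of the class multiplication coefficients. -/
theorem sum_mul_pairCount (z : G) (θ : G → ℂ) :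
    (Nat.card (Subgroup.centralizer ({z} : Set G)) : ℂ) ^ 2 * ∑ g : G, θ g * pairCount z g =
      (Nat.card G : ℂ) * ∑ χ : Cfsg.IrrCharacter G, (∑ g : G, θ g * conj ((χ : G → ℂ) g)) *
        ((χ : G → ℂ) z * (χ : G → ℂ) z / (χ : G → ℂ) 1) := by
  classical
  rw [Finset.mul_sum, Finset.sum_congr rfl (g := fun g => (Nat.card G : ℂ) *
    ∑ χ : Cfsg.IrrCharacter G, θ g * (conj ((χ : G → ℂ) g) *
      ((χ : G → ℂ) z * (χ : G → ℂ) z / (χ : G → ℂ) 1))) fun g _ => ?_]
  · rw [← Finset.mul_sum, Finset.sum_comm]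
    congr 1
    refine Finset.sum_congr rfl fun χ _ => ?_
    rw [Finset.sum_mul]
    exact Finset.sum_congr rfl fun g _ => by ring
  · rw [← Finset.mul_sum, ← mul_assoc (Nat.card G : ℂ), mul_comm (Nat.card G : ℂ), mul_assoc,
      ← SylowThreeNine.pairs_eq z z g]
    show _ * (θ g * (pairCount z g : ℂ)) = θ g * (_ * _ * (pairCount z g : ℂ))
    ring

omit [IsSimpleGroup G] in
/-- The two conjugates of an involution multiplying to `g` invert `g`. -/
theorem inverts_of_pair {z g w : G} (hz : orderOf z = 2) (h1 : IsConj z w)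
    (h2 : IsConj z (w⁻¹ * g)) : w * g * w⁻¹ = g⁻¹ ∧ w ^ 2 = 1 ∧ w ≠ 1 := by
  have hsq : ∀ v, IsConj z v → v ^ 2 = 1 := fun v hv => by
    obtain ⟨a, rfl⟩ := isConj_iff.1 hv
    rw [conj_pow, ← hz, pow_orderOf_eq_one, mul_one, mul_inv_cancel]
  have hw := hsq w h1
  have hwi : w⁻¹ = w := inv_eq_of_mul_eq_one_right (by rw [← pow_two]; exact hw)
  refine ⟨?_, hw, fun e => ?_⟩
  · have h := hsq _ h2
    rw [hwi, pow_two] at h
    have h' : w * g * w = g⁻¹ := eq_inv_of_mul_eq_one_left (by rw [mul_assoc (w * g) w g]; exact h)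
    rw [hwi]
    exact h'
  · rw [e, isConj_one_left] at h1
    rw [h1, orderOf_one] at hz
    omega

end CfsgLib.NineTwoQ
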