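import Mathlib.Data.ZMod.Basic
import Mathlib.Tactic

/-!
# Linear maps of the plane over three elements

A map is the pair of the images of the two coordinate vectors.
-/

set_option autoImplicit false

namespace CfsgLib.NineTwoQ

/-- The plane over three elements. -/
abbrev Vec := Fin 3 × Fin 3

/-- A linear map, by the images of the two coordinate vectors. -/
abbrev Mat := Vec × Vec

namespace Plane

/-- Applying a linear map. -/
def app (M : Mat) (v : Vec) : Vec :=
  (v.1 * M.1.1 + v.2 * M.2.1, v.1 * M.1.2 + v.2 * M.2.2)

/-- Composition. -/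
def comp (M N : Mat) : Mat := (app M N.1, app M N.2)

/-- The identity. -/
def one : Mat := ((1, 0), (0, 1))

/-- The reflection fixing the first coordinate vector. -/
def refl : Mat := ((1, 0), (0, 2))

/-- The scalar `-1`. -/
def negOne : Mat := ((2, 0), (0, 2))

/-- Iterated squaring. -/
def sq (M : Mat) : Mat := comp M M

/-- The sixteenth power. -/
def p16 (M : Mat) : Mat := sq (sq (sq (sq M)))

/-- Injectivity. -/
def Inj (M : Mat) : Prop := ∀ v : Vec, app M v = (0, 0) → v = (0, 0)

instance (M : Mat) : Decidable (Inj M) := by unfold Inj; infer_instance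

theorem p16_cube : ∀ M : Mat, Inj M → comp (p16 M) (comp (p16 M) (p16 M)) = one := by
  decide +kernel

/-- The orbit of `a` under the powers of `M` of exponent below eight. -/
def orb (M : Mat) (a : Vec) : List Vec :=
  [a, app M a, app M (app M a), app M (app M (app M a)), app (sq (sq M)) a,
    app (sq (sq M)) (app M a), app (sq (sq M)) (app M (app M a)),
    app (sq (sq M)) (app M (app M (app M a)))]

/-- Two orbits cover the nonzero vectors. -/
def TwoOrb (M : Mat) : Prop :=
  ∃ a b : Vec, ∀ v : Vec, v ≠ (0, 0) → v ∈ orb M a ∨ v ∈ orb M b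

instance (M : Mat) : Decidable (TwoOrb M) := by unfold TwoOrb; infer_instance

/-- A map of two-power order greater than two has at most two orbits. -/
theorem two_orbits : ∀ M : Mat, p16 M = one → sq M ≠ one → TwoOrb M := by
  decide +kernel

/-- An involutory map is a scalar or has a basis of eigenvectors. -/
theorem involution_cases : ∀ M : Mat, sq M = one → M = one ∨ M = negOne ∨
    ∃ u v : Vec, u ≠ (0, 0) ∧ v ≠ (0, 0) ∧ v ≠ u ∧ v ≠ (-u.1, -u.2) ∧ app M u = u ∧
      app M v = (-v.1, -v.2) := by
  decide +kernel

/-- A map whose products with the reflection square to one is diagonal. -/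
theorem diagonal_of_commute : ∀ M : Mat, sq M = one → sq (comp refl M) = one →
    ((M.1 = (1, 0) ∨ M.1 = (2, 0)) ∧ (M.2 = (0, 1) ∨ M.2 = (0, 2))) := by
  decide +kernel

theorem one_app (v : Vec) : app one v = v := by revert v; decide

theorem mat_ext {M N : Mat} (h : ∀ v, app M v = app N v) : M = N := by
  have h1 : ∀ K : Mat, app K (1, 0) = K.1 ∧ app K (0, 1) = K.2 := by decide +kernel
  exact Prod.ext ((h1 M).1.symm.trans ((h _).trans (h1 N).1))
    ((h1 M).2.symm.trans ((h _).trans (h1 N).2))

/-- The units of exponent sixteen modulo nine. -/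
theorem nine_units : ∀ j : Fin 9, j * j * j * j * j * j = 1 →
    (j * j * (j * j)) = 1 → j = 1 ∨ j = 8 := by
  decide +kernel

end Plane

end CfsgLib.NineTwoQ
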