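import Cfsg.Agent.NineTwoQ.Ctx
import Cfsg.Agent.NineTwoQ.Plane

/-!
# The automizer of a Sylow 3-subgroup of order nine with at least three classes

Either it is generated by the inversion, or the subgroup has two axes that the normaliser keeps and
can invert independently.
-/

set_option autoImplicit false
set_option linter.style.haveILetI false
set_option linter.unusedSectionVars false

namespace CfsgLib.NineTwoQ

universe u

variable {G : Type u} [Group G] [Finite G]

/-- The automizer is the inversion. -/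
structure Inverted (c : Ctx G) : Prop where
  inv : ∀ a ∈ (c.R : Subgroup G), IsConj a a⁻¹
  act : ∀ n ∈ Subgroup.normalizer ((c.R : Subgroup G) : Set G),
    (∀ a ∈ (c.R : Subgroup G), n * a * n⁻¹ = a) ∨ (∀ a ∈ (c.R : Subgroup G), n * a * n⁻¹ = a⁻¹)

/-- The automizer is a four-group: `r` fixes `x` and inverts `y`, `s` does the opposite. -/
structure Axes (c : Ctx G) where
  x : G
  y : G
  r : G
  s : G
  x_mem : x ∈ (c.R : Subgroup G)
  y_mem : y ∈ (c.R : Subgroup G)
  x_three : x ^ 3 = 1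
  y_three : y ^ 3 = 1
  x_ne : x ≠ 1
  y_not : y ∉ Subgroup.zpowers x
  r_x : r * x * r⁻¹ = x
  r_y : r * y * r⁻¹ = y⁻¹
  s_x : s * x * s⁻¹ = x⁻¹
  s_y : s * y * s⁻¹ = y
  act : ∀ n ∈ Subgroup.normalizer ((c.R : Subgroup G) : Set G),
    (n * x * n⁻¹ = x ∨ n * x * n⁻¹ = x⁻¹) ∧ (n * y * n⁻¹ = y ∨ n * y * n⁻¹ = y⁻¹)
  exists_coords : ∀ a ∈ (c.R : Subgroup G), ∃ i j : Fin 3, a = x ^ (i : ℕ) * y ^ (j : ℕ)

/-- A coordinate system of an elementary group of order nine. -/
structure Coord (c : Ctx G) where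
  exp : ∀ a ∈ (c.R : Subgroup G), a ^ 3 = 1
  x : G
  y : G
  x_mem : x ∈ (c.R : Subgroup G)
  y_mem : y ∈ (c.R : Subgroup G)
  x_ne : x ≠ 1
  y_not : y ∉ Subgroup.zpowers x

namespace Coord

variable {c : Ctx G} (P : Coord c)

/-- A point. -/
def pt (v : Vec) : G := P.x ^ (v.1 : ℕ) * P.y ^ (v.2 : ℕ)

theorem pt_mem (v : Vec) : P.pt v ∈ (c.R : Subgroup G) :=
  mul_mem (pow_mem P.x_mem _) (pow_mem P.y_mem _)

theorem pt_zero : P.pt (0, 0) = 1 := by simp [pt]
theorem pt_one_zero : P.pt (1, 0) = P.x := by simp [pt]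
theorem pt_zero_one : P.pt (0, 1) = P.y := by simp [pt]

theorem pt_add (u v : Vec) : P.pt (u + v) = P.pt u * P.pt v := by
  simp only [pt, Prod.fst_add, Prod.snd_add, Fin.val_add]
  rw [← pow_eq_pow_mod _ (P.exp _ P.x_mem), ← pow_eq_pow_mod _ (P.exp _ P.y_mem), pow_add, pow_add]
  have hc := c.comm (pow_mem P.y_mem (u.2 : ℕ)) (pow_mem P.x_mem (v.1 : ℕ))
  calc P.x ^ (u.1 : ℕ) * P.x ^ (v.1 : ℕ) * (P.y ^ (u.2 : ℕ) * P.y ^ (v.2 : ℕ))
      = P.x ^ (u.1 : ℕ) * (P.x ^ (v.1 : ℕ) * P.y ^ (u.2 : ℕ)) * P.y ^ (v.2 : ℕ) := by group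
    _ = _ := by rw [← hc]; group

theorem pt_neg (v : Vec) : P.pt (-v.1, -v.2) = (P.pt v)⁻¹ := by
  refine eq_inv_of_mul_eq_one_left ?_
  rw [← P.pt_add]
  simp [pt]

theorem pt_smul (v : Vec) (k : Fin 3) : P.pt v ^ (k : ℕ) = P.pt (k * v.1, k * v.2) := by
  fin_cases k
  · simp [pt]
  · simp
  · rw [show ((⟨2, by norm_num⟩ : Fin 3) : ℕ) = 2 from rfl, pow_two, ← P.pt_add]
    congr 1
    revert v
    decide

theorem pt_eq_one {v : Vec} (h : P.pt v = 1) : v = (0, 0) := by
  have key : ∀ q : Fin 3, q ≠ 0 → (q : ℕ) * (q : ℕ) % 3 = 1 := by decide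
  obtain ⟨p, q⟩ := v
  have hq : q = 0 := by
    by_contra hq
    refine P.y_not ?_
    have hm : P.y ^ (q : ℕ) ∈ Subgroup.zpowers P.x := by
      rw [show P.y ^ (q : ℕ) = (P.x ^ (p : ℕ))⁻¹ from eq_inv_of_mul_eq_one_right h]
      exact inv_mem (pow_mem (Subgroup.mem_zpowers _) _)
    have := pow_mem hm (q : ℕ)
    rwa [← pow_mul, pow_eq_pow_mod _ (P.exp _ P.y_mem), key q hq, pow_one] at this
  subst hq
  have hp : P.x ^ (p : ℕ) = 1 := by simpa [pt] using h
  have : p = 0 := by
    by_contra hp0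
    refine P.x_ne ?_
    rw [← pow_one P.x, ← key p hp0, ← pow_eq_pow_mod _ (P.exp _ P.x_mem), pow_mul, hp, one_pow]
  rw [this]

theorem pt_injective : Function.Injective P.pt := fun u v h => by
  have h1 : u + (-v.1, -v.2) = (0, 0) :=
    P.pt_eq_one (by rw [P.pt_add, P.pt_neg, h, mul_inv_cancel])
  have key : ∀ u v : Vec, u + (-v.1, -v.2) = (0, 0) → u = v := by decide +kernel
  exact key u v h1

theorem exists_pt {a : G} (ha : a ∈ (c.R : Subgroup G)) : ∃ v, P.pt v = a := by
  obtain ⟨v, hv⟩ := ((Nat.bijective_iff_injective_and_card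
    fun v => (⟨P.pt v, P.pt_mem v⟩ : (c.R : Subgroup G))).2
    ⟨fun _ _ h => P.pt_injective (congrArg Subtype.val h), by simp [c.card_R]⟩).2 ⟨a, ha⟩
  exact ⟨v, congrArg Subtype.val hv⟩

variable {n : G} (hn : n ∈ Subgroup.normalizer ((c.R : Subgroup G) : Set G))

/-- The matrix of an element of the normaliser. -/
noncomputable def mat : Mat :=
  ((P.exists_pt ((Subgroup.mem_normalizer_iff.1 hn P.x).1 P.x_mem)).choose,
    (P.exists_pt ((Subgroup.mem_normalizer_iff.1 hn P.y).1 P.y_mem)).choose)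

theorem mat_spec (v : Vec) : n * P.pt v * n⁻¹ = P.pt (Plane.app (P.mat hn) v) := by
  have hx := (P.exists_pt ((Subgroup.mem_normalizer_iff.1 hn P.x).1 P.x_mem)).choose_spec
  have hy := (P.exists_pt ((Subgroup.mem_normalizer_iff.1 hn P.y).1 P.y_mem)).choose_spec
  have hsum : ∀ a b : Vec, (v.1 * a.1, v.1 * a.2) + (v.2 * b.1, v.2 * b.2) =
      Plane.app (a, b) v := fun a b => rfl
  rw [show P.mat hn = ((P.mat hn).1, (P.mat hn).2) from rfl, ← hsum, P.pt_add, ← P.pt_smul,
    ← P.pt_smul]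
  simp only [mat]
  rw [hx, hy, conj_pow, conj_pow, pt]
  group

theorem mat_inj : Plane.Inj (P.mat hn) := fun v h => by
  refine P.pt_eq_one ?_
  have h1 := P.mat_spec hn v
  rw [h, P.pt_zero, conj_eq_one_iff] at h1
  exact h1

theorem mat_mul {n' : G} (hn' : n' ∈ Subgroup.normalizer ((c.R : Subgroup G) : Set G)) :
    P.mat (mul_mem hn hn') = Plane.comp (P.mat hn) (P.mat hn') := by
  refine Plane.mat_ext fun v => P.pt_injective ?_
  rw [← P.mat_spec (mul_mem hn hn'),
    show Plane.app (Plane.comp (P.mat hn) (P.mat hn')) v =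
      Plane.app (P.mat hn) (Plane.app (P.mat hn') v) from ?_, ← P.mat_spec hn, ← P.mat_spec hn']
  · group
  · letI : CommRing (Fin 3) := Fin.instCommRing 3
    simp only [Plane.app, Plane.comp]
    ext1 <;> ring

theorem mat_eq_one_iff :
    P.mat hn = Plane.one ↔ n ∈ Subgroup.centralizer ((c.R : Subgroup G) : Set G) := by
  constructor
  · intro h
    refine Subgroup.mem_centralizer_iff.2 fun a ha => ?_
    obtain ⟨v, rfl⟩ := P.exists_pt ha
    have h1 := P.mat_spec hn v
    rw [h, Plane.one_app] at h1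
    exact (mul_inv_eq_iff_eq_mul.1 h1).symm
  · intro h
    refine Plane.mat_ext fun v => P.pt_injective ?_
    rw [← P.mat_spec hn, Plane.one_app, ← Subgroup.mem_centralizer_iff.1 h _ (P.pt_mem v),
      mul_inv_cancel_right]

end Coord

theorem exists_coord {c : Ctx G} (hexp : ∀ a ∈ (c.R : Subgroup G), a ^ 3 = 1) :
    Nonempty (Coord c) := by
  obtain ⟨x, hx, hx1⟩ := (Subgroup.bot_or_exists_ne_one (c.R : Subgroup G)).resolve_left
    fun e => by
      have := c.card_R
      rw [e, Subgroup.card_bot] at this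
      omega
  obtain ⟨y, hy, hyx⟩ : ∃ y ∈ (c.R : Subgroup G), y ∉ Subgroup.zpowers x := by
    by_contra h
    push Not at h
    have h2 := Subgroup.card_le_of_le h
    rw [c.card_R, Nat.card_zpowers] at h2
    have := Nat.le_of_dvd (by norm_num) (orderOf_dvd_of_pow_eq_one (hexp x hx))
    omega
  exact ⟨⟨hexp, x, y, hx, hy, hx1, hyx⟩⟩

variable {c : Ctx G}

theorem two_act {P : Coord c} {n : G}
    (hn : n ∈ Subgroup.normalizer ((c.R : Subgroup G) : Set G))
    (h3 : ∀ a ∈ (c.R : Subgroup G), ∀ b ∈ (c.R : Subgroup G),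
      ∃ k ∈ (c.R : Subgroup G), k ≠ 1 ∧ ¬ IsConj a k ∧ ¬ IsConj b k) :
    Plane.sq (P.mat hn) = Plane.one := by
  have hsq : ∀ {k : G} (hk : k ∈ Subgroup.normalizer ((c.R : Subgroup G) : Set G)),
      Plane.sq (P.mat hk) = P.mat (mul_mem hk hk) := fun hk => (P.mat_mul hk hk).symm
  have h16 : ∀ (h : n ^ 16 ∈ Subgroup.normalizer ((c.R : Subgroup G) : Set G)),
      Plane.p16 (P.mat hn) = P.mat h := by
    intro h
    have e : n * n * (n * n) * (n * n * (n * n)) * (n * n * (n * n) * (n * n * (n * n))) = n ^ 16 := by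
      simp only [pow_succ, pow_zero, one_mul, mul_assoc]
    simp only [Plane.p16, hsq]
    congr 1
  have hM : Plane.p16 (P.mat hn) = Plane.one := by
    have h := pow_mem hn 16
    rw [h16 h, P.mat_eq_one_iff]
    refine c.act_trivial_of_cube h ?_
    have hc := Plane.p16_cube _ (P.mat_inj hn)
    rw [h16 h, ← P.mat_mul, ← P.mat_mul, P.mat_eq_one_iff] at hc
    rwa [pow_succ', pow_two]
  by_contra hne
  obtain ⟨a, b, hab⟩ := Plane.two_orbits _ hM hne
  obtain ⟨k, hk, hk1, hka, hkb⟩ := h3 _ (P.pt_mem a) _ (P.pt_mem b)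
  obtain ⟨v, rfl⟩ := P.exists_pt hk
  have horb : ∀ e, v ∈ Plane.orb (P.mat hn) e → IsConj (P.pt e) (P.pt v) := by
    have step : ∀ {k : G} (hk : k ∈ Subgroup.normalizer ((c.R : Subgroup G) : Set G)) (e w : Vec),
        IsConj (P.pt e) (P.pt w) → IsConj (P.pt e) (P.pt (Plane.app (P.mat hk) w)) :=
      fun hk e w h => h.trans (isConj_iff.2 ⟨_, P.mat_spec hk w⟩)
    intro e he
    simp only [Plane.orb, hsq, List.mem_cons, List.not_mem_nil, or_false] at he
    rcases he with rfl | rfl | rfl | rfl | rfl | rfl | rfl | rfl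
    · exact IsConj.refl _
    · exact step _ _ _ (IsConj.refl _)
    · exact step _ _ _ (step _ _ _ (IsConj.refl _))
    · exact step _ _ _ (step _ _ _ (step _ _ _ (IsConj.refl _)))
    · exact step _ _ _ (IsConj.refl _)
    · exact step _ _ _ (step _ _ _ (IsConj.refl _))
    · exact step _ _ _ (step _ _ _ (step _ _ _ (IsConj.refl _)))
    · exact step _ _ _ (step _ _ _ (step _ _ _ (step _ _ _ (IsConj.refl _))))
  rcases hab v (fun e => hk1 (by rw [e, P.pt_zero])) with h | h
  · exact hka (horb a h)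
  · exact hkb (horb b h)

theorem inverted_or_axes_elementary (hperf : commutator G = ⊤) (P : Coord c)
    (h3 : ∀ a ∈ (c.R : Subgroup G), ∀ b ∈ (c.R : Subgroup G),
      ∃ k ∈ (c.R : Subgroup G), k ≠ 1 ∧ ¬ IsConj a k ∧ ¬ IsConj b k) :
    Inverted c ∨ Nonempty (Axes c) := by
  by_cases hall : ∀ (n : G) (hn : n ∈ Subgroup.normalizer ((c.R : Subgroup G) : Set G)),
      P.mat hn = Plane.one ∨ P.mat hn = Plane.negOne
  · left
    have hact : ∀ n ∈ Subgroup.normalizer ((c.R : Subgroup G) : Set G),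
        (∀ a ∈ (c.R : Subgroup G), n * a * n⁻¹ = a) ∨
          (∀ a ∈ (c.R : Subgroup G), n * a * n⁻¹ = a⁻¹) := by
      intro n hn
      rcases hall n hn with h | h
      · left
        intro a ha
        obtain ⟨v, rfl⟩ := P.exists_pt ha
        rw [P.mat_spec hn, h, Plane.one_app]
      · right
        intro a ha
        obtain ⟨v, rfl⟩ := P.exists_pt ha
        rw [P.mat_spec hn, h, ← P.pt_neg]
        congr 1
        have key : ∀ v : Vec, Plane.app Plane.negOne v = (-v.1, -v.2) := by decide +kernel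
        exact key v
    refine ⟨fun a ha => ?_, hact⟩
    by_contra hne
    have hfix : ∀ n ∈ Subgroup.normalizer ((c.R : Subgroup G) : Set G), n * a * n⁻¹ = a := by
      intro n hn
      rcases hact n hn with h | h
      · exact h a ha
      · exact absurd (isConj_iff.2 ⟨n, h a ha⟩) hne
    have ha1 := c.eq_one_of_fixed hperf ha hfix
    exact hne (by rw [ha1, inv_one])
  · right
    push Not at hall
    obtain ⟨r, hr, hr1, hr2⟩ := hall
    obtain ⟨u, v, hu, hv, hvu, hvu', hru, hrv⟩ :=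
      ((Plane.involution_cases _ (two_act hr h3)).resolve_left hr1).resolve_left hr2
    let Q : Coord c :=
      { exp := P.exp
        x := P.pt u
        y := P.pt v
        x_mem := P.pt_mem u
        y_mem := P.pt_mem v
        x_ne := fun e => hu (P.pt_eq_one e)
        y_not := fun hm => by
          classical
          rw [mem_zpowers_iff_mem_range_orderOf (x := P.pt u),
            orderOf_eq_prime (hp := ⟨Nat.prime_three⟩) (P.exp _ (P.pt_mem u))
              fun e => hu (P.pt_eq_one e)] at hm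
          simp only [Finset.mem_image, Finset.mem_range] at hm
          obtain ⟨i, hi, he⟩ := hm
          interval_cases i
          · rw [pow_zero] at he
            exact hv (P.pt_eq_one he.symm)
          · rw [pow_one] at he
            exact hvu (P.pt_injective he).symm
          · rw [pow_two, ← P.pt_add] at he
            have key : ∀ u : Vec, u + u = (-u.1, -u.2) := by decide +kernel
            exact hvu' ((P.pt_injective he).symm.trans (key u)) }
    have hrQ : Q.mat hr = Plane.refl := by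
      have hx := Q.mat_spec hr (1, 0)
      have hy := Q.mat_spec hr (0, 1)
      rw [Q.pt_one_zero] at hx
      rw [Q.pt_zero_one] at hy
      have hx' : Q.pt (Plane.app (Q.mat hr) (1, 0)) = Q.pt (1, 0) := by
        rw [← hx, Q.pt_one_zero]
        show r * P.pt u * r⁻¹ = P.pt u
        rw [P.mat_spec hr, hru]
      have hy' : Q.pt (Plane.app (Q.mat hr) (0, 1)) = Q.pt (-(0 : Fin 3), -(1 : Fin 3)) := by
        rw [← hy, Q.pt_neg (0, 1), Q.pt_zero_one]
        show r * P.pt v * r⁻¹ = (P.pt v)⁻¹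
        rw [P.mat_spec hr, hrv, P.pt_neg]
      have hx'' := Q.pt_injective hx'
      have hy'' := Q.pt_injective hy'
      refine Prod.ext ?_ ?_
      · have key : ∀ M : Mat, Plane.app M (1, 0) = M.1 := by decide +kernel
        rw [← key (Q.mat hr), hx'']
        rfl
      · have key : ∀ M : Mat, Plane.app M (0, 1) = M.2 := by decide +kernel
        rw [← key (Q.mat hr), hy'']
        decide
    have hact : ∀ n ∈ Subgroup.normalizer ((c.R : Subgroup G) : Set G),
        (n * Q.x * n⁻¹ = Q.x ∨ n * Q.x * n⁻¹ = Q.x⁻¹) ∧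
          (n * Q.y * n⁻¹ = Q.y ∨ n * Q.y * n⁻¹ = Q.y⁻¹) := by
      intro n hn
      have h2 := two_act (P := Q) (mul_mem hr hn) h3
      rw [Q.mat_mul hr hn, hrQ] at h2
      have hd := Plane.diagonal_of_commute _ (two_act (P := Q) hn h3) h2
      have hx := Q.mat_spec hn (1, 0)
      have hy := Q.mat_spec hn (0, 1)
      have key : ∀ M : Mat, Plane.app M (1, 0) = M.1 ∧ Plane.app M (0, 1) = M.2 := by decide +kernel
      rw [(key _).1, Q.pt_one_zero] at hx
      rw [(key _).2, Q.pt_zero_one] at hy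
      refine ⟨hd.1.imp (fun e => ?_) fun e => ?_, hd.2.imp (fun e => ?_) fun e => ?_⟩
      · rw [hx, e, Q.pt_one_zero]
      · rw [hx, e, ← Q.pt_one_zero, ← Q.pt_neg]; rfl
      · rw [hy, e, Q.pt_zero_one]
      · rw [hy, e, ← Q.pt_zero_one, ← Q.pt_neg]; rfl
    have hrx : r * Q.x * r⁻¹ = Q.x := by
      rw [← Q.pt_one_zero, Q.mat_spec hr, hrQ]; rfl
    have hry : r * Q.y * r⁻¹ = Q.y⁻¹ := by
      rw [← Q.pt_zero_one, Q.mat_spec hr, hrQ, ← Q.pt_neg]; rfl
    obtain ⟨s, hsx, hsy⟩ : ∃ s : G, s * Q.x * s⁻¹ = Q.x⁻¹ ∧ s * Q.y * s⁻¹ = Q.y := by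
      obtain ⟨n, hn, hnx⟩ : ∃ n ∈ Subgroup.normalizer ((c.R : Subgroup G) : Set G),
          n * Q.x * n⁻¹ ≠ Q.x := by
        by_contra h
        push Not at h
        exact Q.x_ne (c.eq_one_of_fixed hperf Q.x_mem h)
      have h1 := (hact n hn).1.resolve_left hnx
      rcases (hact n hn).2 with h2 | h2
      · exact ⟨n, h1, h2⟩
      · refine ⟨r * n, ?_, ?_⟩
        · calc r * n * Q.x * (r * n)⁻¹ = r * (n * Q.x * n⁻¹) * r⁻¹ := by group
            _ = _ := by rw [h1, ← conj_inv, hrx]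
        · calc r * n * Q.y * (r * n)⁻¹ = r * (n * Q.y * n⁻¹) * r⁻¹ := by group
            _ = _ := by rw [h2, ← conj_inv, hry, inv_inv]
    exact ⟨⟨Q.x, Q.y, r, s, Q.x_mem, Q.y_mem, Q.exp _ Q.x_mem, Q.exp _ Q.y_mem, Q.x_ne, Q.y_not,
      hrx, hry, hsx, hsy, hact, fun a ha => by
        obtain ⟨w, rfl⟩ := Q.exists_pt ha
        exact ⟨w.1, w.2, rfl⟩⟩⟩

theorem inverted_cyclic (hperf : commutator G = ⊤) {g : G} (hg : g ∈ (c.R : Subgroup G))
    (hg9 : orderOf g = 9) : Inverted c := by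
  have hgen : Subgroup.zpowers g = (c.R : Subgroup G) :=
    Subgroup.eq_of_le_of_card_ge (Subgroup.zpowers_le.2 hg)
      (by rw [Nat.card_zpowers, hg9, c.card_R])
  have hpow : ∀ a ∈ (c.R : Subgroup G), ∃ i : ℕ, g ^ i = a := fun a ha => by
    rw [← hgen] at ha
    exact (mem_powers_iff_mem_zpowers (x := g)).2 ha
  have hact : ∀ n ∈ Subgroup.normalizer ((c.R : Subgroup G) : Set G),
      (∀ a ∈ (c.R : Subgroup G), n * a * n⁻¹ = a) ∨
        (∀ a ∈ (c.R : Subgroup G), n * a * n⁻¹ = a⁻¹) := by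
    intro n hn
    obtain ⟨j, hj⟩ := hpow _ ((Subgroup.mem_normalizer_iff.1 hn g).1 hg)
    have hiter : ∀ k : ℕ, n ^ k * g * (n ^ k)⁻¹ = g ^ (j ^ k) := by
      intro k
      induction k with
      | zero => simp
      | succ k ih =>
        calc n ^ (k + 1) * g * (n ^ (k + 1))⁻¹ = n ^ k * (n * g * n⁻¹) * (n ^ k)⁻¹ := by
              rw [pow_succ]; group
          _ = g ^ (j ^ k * j) := by rw [← hj, ← conj_pow, ih, ← pow_mul]
          _ = _ := by rw [← pow_succ]
    have h4 : n ^ 4 ∈ Subgroup.normalizer ((c.R : Subgroup G) : Set G) := pow_mem hn 4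
    have hj6 : (j ^ 6 : ZMod 9) = 1 := by
      have hu : IsUnit (j : ZMod 9) := by
        rw [ZMod.isUnit_iff_coprime]
        refine (Nat.Coprime.pow_right 2 ((Nat.prime_three.coprime_iff_not_dvd).2 ?_).symm : _)
        rintro ⟨k, rfl⟩
        have h1 : (n * g * n⁻¹) ^ 3 = 1 := by
          rw [← hj, ← pow_mul, show 3 * k * 3 = 9 * k by ring, pow_mul, c.pow_nine hg, one_pow]
        rw [conj_pow, conj_eq_one_iff] at h1
        have := Nat.le_of_dvd (by norm_num) (orderOf_dvd_of_pow_eq_one h1)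
        omega
      obtain ⟨u, hu⟩ := hu
      rw [← hu, ← Units.val_pow_eq_pow_val,
        show u ^ 6 = 1 by
          rw [show (6 : ℕ) = Fintype.card (ZMod 9)ˣ from rfl]; exact pow_card_eq_one,
        Units.val_one]
    have hj4 : (j ^ 4 : ZMod 9) = 1 := by
      have hcube : (n ^ 4) ^ 3 ∈ Subgroup.centralizer ((c.R : Subgroup G) : Set G) := by
        refine Subgroup.mem_centralizer_iff.2 fun a ha => ?_
        obtain ⟨i, rfl⟩ := hpow a ha
        have h1 := hiter 12
        rw [show g ^ (j ^ 12) = g from ?_, mul_inv_eq_iff_eq_mul] at h1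
        · rw [← pow_mul]
          exact ((Commute.pow_right (show Commute (n ^ (4 * 3)) g from h1) i).eq).symm
        · conv_rhs => rw [← pow_one g]
          rw [pow_eq_pow_iff_modEq, hg9, ← ZMod.natCast_eq_natCast_iff]
          push_cast
          rw [show (12 : ℕ) = 6 * 2 from rfl, pow_mul, hj6, one_pow]
      have h1 := Subgroup.mem_centralizer_iff.1 (c.act_trivial_of_cube h4 hcube) g hg
      have h2 := hiter 4
      rw [← h1, mul_inv_cancel_right] at h2
      have h3 : g ^ 1 = g ^ (j ^ 4) := by rw [pow_one]; exact h2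
      rw [pow_eq_pow_iff_modEq, hg9, ← ZMod.natCast_eq_natCast_iff] at h3
      push_cast at h3
      exact h3.symm
    have hcases : (j : ZMod 9) = 1 ∨ (j : ZMod 9) = 8 :=
      Plane.nine_units (j : ZMod 9)
        (show (j : ZMod 9) * j * j * j * j * j = 1 by rw [← hj6]; simp only [pow_succ, pow_zero, one_mul])
        (show (j : ZMod 9) * j * (j * j) = 1 by rw [← hj4]; simp only [pow_succ, pow_zero, one_mul, mul_assoc])
    rcases hcases with h | h
    · left
      have hj1 : n * g * n⁻¹ = g := by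
        rw [← hj]
        conv_rhs => rw [← pow_one g]
        rw [pow_eq_pow_iff_modEq, hg9, ← ZMod.natCast_eq_natCast_iff, h, Nat.cast_one]
      intro a ha
      obtain ⟨i, rfl⟩ := hpow a ha
      rw [← conj_pow, hj1]
    · right
      have hj1 : n * g * n⁻¹ = g⁻¹ := by
        rw [← hj, eq_inv_iff_mul_eq_one, ← pow_succ, ← orderOf_dvd_iff_pow_eq_one, hg9,
          ← ZMod.natCast_eq_zero_iff]
        push_cast
        rw [h]
        rfl
      intro a ha
      obtain ⟨i, rfl⟩ := hpow a ha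
      rw [← conj_pow, hj1, inv_pow]
  refine ⟨fun a ha => ?_, hact⟩
  by_contra hne
  have hfix : ∀ n ∈ Subgroup.normalizer ((c.R : Subgroup G) : Set G), n * a * n⁻¹ = a := by
    intro n hn
    rcases hact n hn with h | h
    · exact h a ha
    · exact absurd (isConj_iff.2 ⟨n, h a ha⟩) hne
  have ha1 := c.eq_one_of_fixed hperf ha hfix
  exact hne (by rw [ha1, inv_one])

/-- The two kinds of automizer. -/
theorem inverted_or_axes (hperf : commutator G = ⊤)
    (h3 : ∀ a ∈ (c.R : Subgroup G), ∀ b ∈ (c.R : Subgroup G),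
      ∃ k ∈ (c.R : Subgroup G), k ≠ 1 ∧ ¬ IsConj a k ∧ ¬ IsConj b k) :
    Inverted c ∨ Nonempty (Axes c) := by
  by_cases hexp : ∀ a ∈ (c.R : Subgroup G), a ^ 3 = 1
  · obtain ⟨P⟩ := exists_coord hexp
    exact inverted_or_axes_elementary hperf P h3
  · push Not at hexp
    obtain ⟨g, hg, hg3⟩ := hexp
    refine Or.inl (inverted_cyclic hperf hg ?_)
    obtain ⟨i, hi, he⟩ := (Nat.dvd_prime_pow Nat.prime_three).1
      (show orderOf g ∣ 3 ^ 2 from c.orderOf_dvd hg)
    interval_cases i <;> simp at he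
    · exact absurd (by rw [he, one_pow]) hg3
    · exact absurd (by rw [← he, pow_orderOf_eq_one]) hg3
    · exact he

end CfsgLib.NineTwoQ
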