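import Cfsg.Agent.NineTwoQ.Ctx

/-!
# The sections of the elements of the Sylow 3-subgroup
-/

set_option autoImplicit false
set_option linter.style.haveILetI false
set_option linter.unusedSectionVars false

namespace CfsgLib.NineTwoQ.Ctx

universe u

variable {G : Type u} [Group G] [Fintype G] (c : Ctx G)

open Classical in
/-- The elements whose 3-part is conjugate to `k`. -/
noncomputable def sec (k : G) : Finset G := Finset.univ.filter fun g => IsConj (g ^ c.κ) k

open Classical in
/-- The 3-regular elements of the centraliser of `k`. -/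
noncomputable def reg (k : G) : Finset G :=
  Finset.univ.filter fun u => u ∈ Subgroup.centralizer ({k} : Set G) ∧ u ^ c.κ = 1

theorem mem_sec {k g : G} : g ∈ c.sec k ↔ IsConj (g ^ c.κ) k := by
  classical
  simp [sec]

theorem mem_reg {k u : G} :
    u ∈ c.reg k ↔ u ∈ Subgroup.centralizer ({k} : Set G) ∧ u ^ c.κ = 1 := by
  classical
  simp [reg]

theorem pow_κ_mul {k u : G} (hk : k ^ 9 = 1) (hu : u ∈ c.reg k) : (k * u) ^ c.κ = k := by
  obtain ⟨h1, h2⟩ := c.mem_reg.1 hu
  have hc : Commute k u := (Subgroup.mem_centralizer_singleton_iff.1 h1).symm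
  rw [hc.mul_pow, c.pow_κ_of_nine hk, h2, mul_one]

/-- The size of a section. -/
theorem card_sec_mul {k : G} (hk : k ^ 9 = 1) :
    (c.sec k).card * Nat.card (Subgroup.centralizer ({k} : Set G)) =
      Nat.card G * (c.reg k).card := by
  classical
  have hmaps : Set.MapsTo (fun q : G × G => q.1 * (k * q.2) * q.1⁻¹)
      ((Finset.univ ×ˢ c.reg k : Finset (G × G)) : Set (G × G)) (c.sec k : Set G) := by
    rintro ⟨a, u⟩ hu
    simp only [Finset.coe_product, Set.mem_prod, Finset.mem_coe] at hu
    refine c.mem_sec.2 ?_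
    rw [conj_pow, c.pow_κ_mul hk hu.2]
    exact (isConj_iff.2 ⟨a, rfl⟩).symm
  have hfib : ∀ g ∈ c.sec k, ((Finset.univ ×ˢ c.reg k).filter
      fun q : G × G => q.1 * (k * q.2) * q.1⁻¹ = g).card =
        Nat.card (Subgroup.centralizer ({k} : Set G)) := by
    intro g hg
    obtain ⟨a0, ha0⟩ := isConj_iff.1 (c.mem_sec.1 hg).symm
    rw [Nat.card_eq_fintype_card, ← Finset.card_univ]
    refine Finset.card_bij'
      (s := (Finset.univ ×ˢ c.reg k).filter fun q : G × G => q.1 * (k * q.2) * q.1⁻¹ = g)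
      (t := (Finset.univ : Finset (Subgroup.centralizer ({k} : Set G))))
      (fun q hq => (⟨a0⁻¹ * q.1, ?_⟩ : Subgroup.centralizer ({k} : Set G)))
      (fun d _ => (a0 * (d : G), k⁻¹ * ((a0 * (d : G))⁻¹ * g * (a0 * (d : G)))))
      (fun q hq => Finset.mem_univ _) ?_ ?_ ?_
    · obtain ⟨h1, h2⟩ := Finset.mem_filter.1 hq
      have h3 := congrArg (· ^ c.κ) h2
      simp only [conj_pow, c.pow_κ_mul hk (Finset.mem_product.1 h1).2] at h3
      rw [← ha0] at h3
      refine Subgroup.mem_centralizer_singleton_iff.2 ?_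
      calc a0⁻¹ * q.1 * k = a0⁻¹ * (q.1 * k * q.1⁻¹) * q.1 := by group
        _ = _ := by rw [h3]; group
    · intro d _
      set a := a0 * (d : G) with ha
      have hak : a * k * a⁻¹ = g ^ c.κ := by
        have hd := Subgroup.mem_centralizer_singleton_iff.1 d.2
        calc a * k * a⁻¹ = a0 * ((d : G) * k) * (d : G)⁻¹ * a0⁻¹ := by rw [ha]; group
          _ = a0 * k * a0⁻¹ := by rw [hd]; group
          _ = _ := ha0
      have hk' : (a⁻¹ * g * a) ^ c.κ = k := by
        have := conj_pow (i := c.κ) (a := a⁻¹) (b := g)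
        rw [inv_inv] at this
        rw [this, ← hak]
        group
      have hcomm : Commute k (a⁻¹ * g * a) := by
        rw [← hk']
        exact Commute.pow_self _ _
      refine Finset.mem_filter.2 ⟨Finset.mem_product.2 ⟨Finset.mem_univ _, c.mem_reg.2 ⟨?_, ?_⟩⟩, ?_⟩
      · refine Subgroup.mem_centralizer_singleton_iff.2 ?_
        exact ((Commute.refl k).inv_left.mul_left hcomm.symm).eq
      · rw [(hcomm.inv_left).mul_pow, inv_pow, c.pow_κ_of_nine hk, hk', inv_mul_cancel]
      · show a * (k * (k⁻¹ * (a⁻¹ * g * a))) * a⁻¹ = g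
        group
    · intro q hq
      obtain ⟨-, h2⟩ := Finset.mem_filter.1 hq
      refine Prod.ext (mul_inv_cancel_left _ _) ?_
      show k⁻¹ * ((a0 * (a0⁻¹ * q.1))⁻¹ * g * (a0 * (a0⁻¹ * q.1))) = q.2
      rw [mul_inv_cancel_left, ← h2]
      group
    · intro d _
      exact Subtype.ext (inv_mul_cancel_left _ _)
  have h := Finset.card_eq_sum_card_fiberwise hmaps
  rw [Finset.sum_congr rfl hfib, Finset.sum_const, smul_eq_mul, Finset.card_product,
    Finset.card_univ, ← Nat.card_eq_fintype_card] at h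
  exact h.symm

/-- The 3-regular elements make at most a third of the centraliser. -/
theorem three_mul_card_reg_le {k : G} (hk : k ^ 9 = 1) (hk1 : k ≠ 1) :
    3 * (c.reg k).card ≤ Nat.card (Subgroup.centralizer ({k} : Set G)) := by
  classical
  rw [Nat.card_eq_fintype_card, Fintype.card_subtype,
    show 3 * (c.reg k).card = ((Finset.range 3) ×ˢ c.reg k).card by
      rw [Finset.card_product, Finset.card_range]]
  refine Finset.card_le_card_of_injOn (fun q : ℕ × G => k ^ q.1 * q.2) ?_ ?_
  · rintro ⟨i, u⟩ hu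
    simp only [Finset.coe_product, Set.mem_prod, Finset.mem_coe] at hu
    simp only [Finset.coe_filter, Finset.mem_univ, true_and, Set.mem_setOf_eq]
    exact mul_mem (pow_mem (Subgroup.mem_centralizer_singleton_iff.2 rfl) _)
      (c.mem_reg.1 hu.2).1
  · rintro ⟨i, u⟩ hu ⟨j, v⟩ hv h
    simp only [Finset.coe_product, Set.mem_prod, Finset.mem_coe, Finset.mem_range] at hu hv
    have hc : ∀ (l : ℕ) {w : G}, w ∈ c.reg k → (k ^ l * w) ^ c.κ = k ^ l := fun l w hw => by
      have hcw : Commute k w :=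
        (Subgroup.mem_centralizer_singleton_iff.1 (c.mem_reg.1 hw).1).symm
      rw [(hcw.pow_left l).mul_pow, ← pow_mul, mul_comm l, pow_mul, c.pow_κ_of_nine hk,
        (c.mem_reg.1 hw).2, mul_one]
    have h' := congrArg (· ^ c.κ) h
    simp only [hc i hu.2, hc j hv.2] at h'
    have ho : 3 ≤ orderOf k := by
      obtain ⟨l, hl, he⟩ := (Nat.dvd_prime_pow Nat.prime_three).1
        (show orderOf k ∣ 3 ^ 2 from orderOf_dvd_of_pow_eq_one hk)
      rw [he]
      interval_cases l
      · exact absurd (orderOf_eq_one_iff.1 he) hk1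
      · norm_num
      · norm_num
    have hij : i = j := pow_injOn_Iio_orderOf (Set.mem_Iio.2 (by omega)) (Set.mem_Iio.2 (by omega)) h'
    subst hij
    exact Prod.ext rfl (mul_left_cancel h)

/-- Without fusion in the centraliser the 3-regular elements form its normal complement. -/
theorem nine_mul_card_reg {k : G} (hk : k ∈ (c.R : Subgroup G))
    (hN : ∀ n ∈ Subgroup.normalizer ((c.R : Subgroup G) : Set G), n * k * n⁻¹ = k →
      n ∈ Subgroup.centralizer ((c.R : Subgroup G) : Set G)) :
    9 * (c.reg k).card = Nat.card (Subgroup.centralizer ({k} : Set G)) := by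
  classical
  haveI : Fact (Nat.Prime 3) := ⟨Nat.prime_three⟩
  set C := Subgroup.centralizer ({k} : Set G) with hC
  have hle : (c.R : Subgroup G) ≤ C := fun a ha =>
    Subgroup.mem_centralizer_singleton_iff.2 (c.comm ha hk)
  let S : Sylow 3 C := c.R.subtype hle
  have hS : Subgroup.normalizer ((S : Subgroup C) : Set C) ≤
      Subgroup.centralizer ((S : Subgroup C) : Set C) := by
    intro n hn
    have hn' : (n : G) ∈ Subgroup.normalizer ((c.R : Subgroup G) : Set G) := by
      refine Subgroup.mem_normalizer_iff.2 fun a => ⟨fun ha => ?_, fun ha => ?_⟩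
      · exact Subgroup.mem_subgroupOf.1
          ((Subgroup.mem_normalizer_iff.1 hn ⟨a, hle ha⟩).1 (Subgroup.mem_subgroupOf.2 ha))
      · have haC : a ∈ C := by
          have := mul_mem (mul_mem (inv_mem n.2) (hle ha)) n.2
          simpa [mul_assoc] using this
        exact Subgroup.mem_subgroupOf.1
          ((Subgroup.mem_normalizer_iff.1 hn ⟨a, haC⟩).2 (Subgroup.mem_subgroupOf.2 ha))
    have h1 := Subgroup.mem_centralizer_iff.1 (hN n hn'
      (mul_inv_eq_iff_eq_mul.2 (Subgroup.mem_centralizer_singleton_iff.1 n.2)))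
    exact Subgroup.mem_centralizer_iff.2 fun a ha =>
      Subtype.ext (h1 a (Subgroup.mem_subgroupOf.1 ha))
  set K := (MonoidHom.transferSylow S hS).ker
  have hcomp : Subgroup.IsComplement' K (S : Subgroup C) :=
    MonoidHom.ker_transferSylow_isComplement' S hS
  have hScard : Nat.card (S : Subgroup C) = 9 := by
    rw [show (S : Subgroup C) = (c.R : Subgroup G).subgroupOf C from rfl,
      Nat.card_congr (Subgroup.subgroupOfEquivOfLe hle).toEquiv, c.card_R]
  have hcard : Nat.card K * 9 = Nat.card C := by rw [← hScard]; exact hcomp.card_mul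
  have hidx : K.index = 9 := by
    have h := K.card_mul_index
    rw [← hcard] at h
    exact Nat.eq_of_mul_eq_mul_left Nat.card_pos h
  have hKm : Nat.card K ∣ c.m := by
    have h := Subgroup.card_subgroup_dvd_card C
    rw [← hcard, c.card_G] at h
    exact Nat.dvd_of_mul_dvd_mul_right (by norm_num) h
  have hiff : ∀ u : C, u ∈ K ↔ (u : G) ^ c.κ = 1 := by
    intro u
    constructor
    · intro hu
      refine orderOf_dvd_iff_pow_eq_one.1 ((Dvd.dvd.trans ?_ hKm).trans c.κ_zero)
      have h := orderOf_dvd_natCard (⟨u, hu⟩ : K)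
      rwa [← Subgroup.orderOf_coe, ← Subgroup.orderOf_coe] at h
    · intro hu
      have h9 : u ^ 9 ∈ K := by
        have := K.pow_index_mem u
        rwa [hidx] at this
      obtain ⟨j, hj⟩ : ∃ j, c.κ = 9 * j + 1 := by
        refine ⟨c.κ / 9, ?_⟩
        have h : c.κ % 9 = 1 := c.κ_one
        omega
      have : u ^ c.κ = 1 := Subtype.ext (by simpa using hu)
      rw [hj, pow_succ, pow_mul] at this
      rw [show u = ((u ^ 9) ^ j)⁻¹ from eq_inv_of_mul_eq_one_right this]
      exact inv_mem (pow_mem h9 _)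
  have hreg : (c.reg k).card = Nat.card K := by
    rw [Nat.card_eq_fintype_card, ← Finset.card_univ]
    exact Finset.card_bij' (s := c.reg k) (t := (Finset.univ : Finset K))
      (fun u hu => (⟨⟨u, (c.mem_reg.1 hu).1⟩, (hiff _).2 (c.mem_reg.1 hu).2⟩ : K))
      (fun u _ => ((u : C) : G)) (fun _ _ => Finset.mem_univ _)
      (fun u _ => c.mem_reg.2 ⟨(u : C).2, (hiff _).1 u.2⟩) (fun _ _ => rfl) (fun _ _ => rfl)
  rw [hreg, mul_comm, hcard]

theorem nine_mul_card_sec {k : G} (hk : k ∈ (c.R : Subgroup G))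
    (hN : ∀ n ∈ Subgroup.normalizer ((c.R : Subgroup G) : Set G), n * k * n⁻¹ = k →
      n ∈ Subgroup.centralizer ((c.R : Subgroup G) : Set G)) :
    9 * (c.sec k).card = Nat.card G := by
  have h1 := c.card_sec_mul (c.pow_nine hk)
  have h2 := c.nine_mul_card_reg hk hN
  refine Nat.eq_of_mul_eq_mul_right (Nat.card_pos (α := Subgroup.centralizer ({k} : Set G))) ?_
  rw [mul_assoc, h1, ← mul_assoc, mul_comm 9, mul_assoc, h2]

theorem three_mul_card_sec_le {k : G} (hk : k ∈ (c.R : Subgroup G)) (hk1 : k ≠ 1) :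
    3 * (c.sec k).card ≤ Nat.card G := by
  have h1 := c.card_sec_mul (c.pow_nine hk)
  have h2 := c.three_mul_card_reg_le (c.pow_nine hk) hk1
  refine Nat.le_of_mul_le_mul_right ?_ (Nat.card_pos (α := Subgroup.centralizer ({k} : Set G)))
  rw [mul_assoc, h1, ← mul_assoc, mul_comm 3, mul_assoc]
  exact Nat.mul_le_mul_left _ h2

theorem sec_pos {k : G} (hk : k ∈ (c.R : Subgroup G)) : 0 < (c.sec k).card :=
  Finset.card_pos.2 ⟨k, c.mem_sec.2 (by rw [c.pow_κ_of_nine (c.pow_nine hk)])⟩

end CfsgLib.NineTwoQ.Ctx
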