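import Cfsg.Agent.NineTwoQ.CaseInverted

/-!
# The lift of a nonprincipal character of the Sylow subgroup: the case of two axes
-/

set_option autoImplicit false
set_option linter.style.haveILetI false
set_option linter.unusedSectionVars false

namespace CfsgLib.NineTwoQ

open CfsgLib.Characters CfsgLib.PrincipalBlock Ctx
open scoped ComplexConjugate

universe u

variable {G : Type u} [Group G] [Fintype G] {c : Ctx G}

/-- The numbers in the axes case. -/
theorem axes_arith {ε ε' u v F X : ℤ} (hε : ε = 1 ∨ ε = -1) (hε' : ε' = 1 ∨ ε' = -1)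
    (hX : X ≠ 0) (hF : F ≠ 0) (hlin : ε * u + ε' * v = 0) (hsq : u ^ 2 + v ^ 2 ≤ 2)
    (hdeg : 1 + ε * F + ε' * X = 0) (hdeg' : u ^ 2 + v ^ 2 = 2 → 1 + u * F + v * X = 0) :
    u = 0 ∧ v = 0 := by
  have hu : u = 0 ∨ u = 1 ∨ u = -1 := by
    have : -1 ≤ u ∧ u ≤ 1 := ⟨by nlinarith [sq_nonneg v], by nlinarith [sq_nonneg v]⟩
    omega
  rcases hu with rfl | rfl | rfl
  · rcases hε' with rfl | rfl <;> constructor <;> linarith
  all_goals
    exfalso
    have hv : v = 1 ∨ v = -1 := by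
      rcases hε with rfl | rfl <;> rcases hε' with rfl | rfl <;> omega
    rcases hε with rfl | rfl <;> rcases hε' with rfl | rfl <;> rcases hv with rfl | rfl <;>
      first
        | omega
        | (have := hdeg' (by norm_num); omega)

namespace Axes

variable (A : Axes c)

theorem x_act {n : G} (hn : n ∈ Subgroup.normalizer ((c.R : Subgroup G) : Set G)) {a : G}
    (ha : a ∈ (c.R : Subgroup G)) :
    (n * a * n⁻¹ ∈ Subgroup.zpowers A.x ↔ a ∈ Subgroup.zpowers A.x) ∧
      (n * a * n⁻¹ ∈ Subgroup.zpowers A.y ↔ a ∈ Subgroup.zpowers A.y) := by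
  have key : ∀ w : G, (n * w * n⁻¹ = w ∨ n * w * n⁻¹ = w⁻¹) →
      (n * a * n⁻¹ ∈ Subgroup.zpowers w ↔ a ∈ Subgroup.zpowers w) := by
    intro w hw
    have hmap : (Subgroup.zpowers w).map (MulAut.conj n).toMonoidHom = Subgroup.zpowers w := by
      rw [MonoidHom.map_zpowers]
      show Subgroup.zpowers (n * w * n⁻¹) = _
      rcases hw with h | h <;> rw [h]
      exact Subgroup.zpowers_inv
    constructor
    · intro h
      rw [← hmap] at h
      obtain ⟨b, hb, he⟩ := h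
      rwa [← (MulAut.conj n).injective (show MulAut.conj n b = MulAut.conj n a from he)]
    · intro h
      rw [← hmap]
      exact ⟨a, h, rfl⟩
  exact ⟨key _ (A.act n hn).1, key _ (A.act n hn).2⟩

theorem x_le : Subgroup.zpowers A.x ≤ (c.R : Subgroup G) := Subgroup.zpowers_le.2 A.x_mem
theorem y_le : Subgroup.zpowers A.y ≤ (c.R : Subgroup G) := Subgroup.zpowers_le.2 A.y_mem

theorem y_ne : A.y ≠ 1 := fun h => A.y_not (h ▸ one_mem _)

theorem inf_eq_one {a : G} (h1 : a ∈ Subgroup.zpowers A.x) (h2 : a ∈ Subgroup.zpowers A.y) :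
    a = 1 := by
  by_contra ha
  haveI : Fact (Nat.Prime 3) := ⟨Nat.prime_three⟩
  have hy : Nat.card (Subgroup.zpowers A.y) = 3 := by
    rw [Nat.card_zpowers]; exact orderOf_eq_prime A.y_three A.y_ne
  have heq : Subgroup.zpowers a = Subgroup.zpowers A.y := by
    refine Subgroup.eq_of_le_of_card_ge (Subgroup.zpowers_le.2 h2) ?_
    have hd : orderOf a ∣ 3 := hy ▸ Subgroup.orderOf_dvd_natCard _ h2
    rcases (Nat.dvd_prime Nat.prime_three).1 hd with e | e
    · exact absurd (orderOf_eq_one_iff.1 e) ha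
    · rw [hy, Nat.card_zpowers, e]
  exact A.y_not (Subgroup.zpowers_le.2 h1 (heq ▸ Subgroup.mem_zpowers A.y))

theorem y_not_x : A.y ∉ Subgroup.zpowers A.x := A.y_not

theorem x_not_y : A.x ∉ Subgroup.zpowers A.y := fun h =>
  A.x_ne (A.inf_eq_one (Subgroup.mem_zpowers _) h)

theorem xy_not : A.x * A.y ∉ Subgroup.zpowers A.x ∧ A.x * A.y ∉ Subgroup.zpowers A.y :=
  ⟨fun h => A.y_not ((Subgroup.mul_mem_cancel_left _ (Subgroup.mem_zpowers _)).1 h),
    fun h => A.x_not_y ((Subgroup.mul_mem_cancel_right _ (Subgroup.mem_zpowers _)).1 h)⟩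

theorem mem_zpowers_iff_conj_y {a : G} (ha : a ∈ (c.R : Subgroup G)) :
    IsConj a A.y ↔ a ∈ Subgroup.zpowers A.y ∧ a ≠ 1 := by
  constructor
  · intro h
    refine ⟨?_, fun e => A.y_ne (by rw [e, isConj_one_right] at h; exact h)⟩
    obtain ⟨n, hn, he⟩ := c.exists_normalizer_conj ha A.y_mem h
    exact ((A.x_act hn ha).2).1 (by rw [he]; exact Subgroup.mem_zpowers _)
  · rintro ⟨hm, ha1⟩
    obtain ⟨i, rfl⟩ := (mem_powers_iff_mem_zpowers (x := A.y)).2 hm
    beta_reduce at ha1 ⊢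
    have hi : i % 3 < 3 := Nat.mod_lt _ (by norm_num)
    rw [pow_eq_pow_mod i A.y_three] at ha1 ⊢
    interval_cases hr : i % 3
    · exact absurd (pow_zero _) ha1
    · rw [pow_one]
    · rw [show A.y ^ 2 = A.y⁻¹ from eq_inv_of_mul_eq_one_left (by rw [← pow_succ]; exact A.y_three)]
      exact (isConj_iff.2 ⟨A.r, A.r_y⟩).symm

theorem isConj_xy_iff {a : G} (ha : a ∈ (c.R : Subgroup G)) :
    IsConj a (A.x * A.y) ↔ a ∉ Subgroup.zpowers A.x ∧ a ∉ Subgroup.zpowers A.y := by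
  constructor
  · intro h
    obtain ⟨n, hn, he⟩ := c.exists_normalizer_conj ha (mul_mem A.x_mem A.y_mem) h
    exact ⟨fun hm => A.xy_not.1 (he ▸ ((A.x_act hn ha).1).2 hm),
      fun hm => A.xy_not.2 (he ▸ ((A.x_act hn ha).2).2 hm)⟩
  · rintro ⟨hx, hy⟩
    obtain ⟨i, j, rfl⟩ := A.exists_coords a ha
    have hi : (i : ℕ) ≠ 0 := fun e => hy (by
      rw [e, pow_zero, one_mul]; exact pow_mem (Subgroup.mem_zpowers _) _)
    have hj : (j : ℕ) ≠ 0 := fun e => hx (by
      rw [e, pow_zero, mul_one]; exact pow_mem (Subgroup.mem_zpowers _) _)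
    have hfl : ∀ (n w : G), n * w * n⁻¹ = w⁻¹ → ∀ v : G, n * v * n⁻¹ = v →
        n * (w ^ 2) * n⁻¹ = (w ^ 2)⁻¹ ∧ IsConj (w * v) (w⁻¹ * v) ∧ IsConj (v * w) (v * w⁻¹) := by
      intro n w hw v hv
      refine ⟨by rw [← conj_pow, hw, inv_pow], isConj_iff.2 ⟨n, ?_⟩, isConj_iff.2 ⟨n, ?_⟩⟩
      · calc n * (w * v) * n⁻¹ = n * w * n⁻¹ * (n * v * n⁻¹) := by group
          _ = _ := by rw [hw, hv]
      · calc n * (v * w) * n⁻¹ = n * v * n⁻¹ * (n * w * n⁻¹) := by group
          _ = _ := by rw [hw, hv]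
    have ex : A.x ^ 2 = A.x⁻¹ := eq_inv_of_mul_eq_one_left (by rw [← pow_succ]; exact A.x_three)
    have ey : A.y ^ 2 = A.y⁻¹ := eq_inv_of_mul_eq_one_left (by rw [← pow_succ]; exact A.y_three)
    have h1 := (hfl A.s A.x A.s_x A.y A.s_y).2.1
    have h2 := (hfl A.r A.y A.r_y A.x A.r_x).2.2
    have h3 : IsConj (A.x⁻¹ * A.y) (A.x⁻¹ * A.y⁻¹) := (hfl A.r A.y A.r_y A.x⁻¹ (by
      rw [← conj_inv, A.r_x])).2.2
    rcases (show (i : ℕ) = 1 ∨ (i : ℕ) = 2 by omega) with ei | ei <;>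
      rcases (show (j : ℕ) = 1 ∨ (j : ℕ) = 2 by omega) with ej | ej <;> rw [ei, ej]
    · rw [pow_one, pow_one]
    · rw [pow_one, ey]; exact h2.symm
    · rw [pow_one, ex]; exact h1.symm
    · rw [ex, ey]; exact (h1.trans h3).symm

open Classical in
theorem sum_sec (k : G) (v : ℂ) :
    ∑ g : G, (if IsConj (g ^ c.κ) k then v else 0) = ((c.sec k).card : ℂ) * v := by
  classical
  rw [← Finset.sum_filter, Finset.sum_const, nsmul_eq_mul]
  congr 3
  ext g
  simp [c.mem_sec]

open Classical in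
theorem lift_x_eq (g : G) : c.lift (off (Subgroup.zpowers A.x) 3) g =
    (if IsConj (g ^ c.κ) A.y then (3 : ℂ) else 0) +
      if IsConj (g ^ c.κ) (A.x * A.y) then (3 : ℂ) else 0 := by
  obtain ⟨r, hr, hc⟩ := c.exists_conj_pow_κ g
  rw [Ctx.lift_eq (Ctx.invariant_off 3 fun n hn a ha => (A.x_act hn ha).1) hr hc]
  have hiff : ∀ k, IsConj (g ^ c.κ) k ↔ IsConj r k := fun k =>
    ⟨fun h => hc.symm.trans h, fun h => hc.trans h⟩
  simp only [off, hiff, A.mem_zpowers_iff_conj_y hr, A.isConj_xy_iff hr]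
  by_cases hx : r ∈ Subgroup.zpowers A.x
  · by_cases hy : r ∈ Subgroup.zpowers A.y
    · simp [hx, hy, A.inf_eq_one hx hy, one_mem]
    · simp [hx, hy]
  · by_cases hy : r ∈ Subgroup.zpowers A.y
    · have : r ≠ 1 := fun e => hx (e ▸ one_mem _)
      simp [hx, hy, this]
    · simp [hx, hy]

open Classical in
theorem lift_mul_eq (g : G) : c.lift (off (Subgroup.zpowers A.x) 3) g *
    c.lift (off (Subgroup.zpowers A.y) 3) g =
      if IsConj (g ^ c.κ) (A.x * A.y) then (9 : ℂ) else 0 := by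
  obtain ⟨r, hr, hc⟩ := c.exists_conj_pow_κ g
  rw [Ctx.lift_eq (Ctx.invariant_off 3 fun n hn a ha => (A.x_act hn ha).1) hr hc,
    Ctx.lift_eq (Ctx.invariant_off 3 fun n hn a ha => (A.x_act hn ha).2) hr hc]
  have hiff : IsConj (g ^ c.κ) (A.x * A.y) ↔ IsConj r (A.x * A.y) :=
    ⟨fun h => hc.symm.trans h, fun h => hc.trans h⟩
  simp only [off, hiff, A.isConj_xy_iff hr]
  split_ifs <;> simp_all
  norm_num

theorem lift_bot_eq (g : G) : c.lift (off ⊥ 9) g =
    3 * c.lift (off (Subgroup.zpowers A.x) 3) g + 3 * c.lift (off (Subgroup.zpowers A.y) 3) g -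
      c.lift (off (Subgroup.zpowers A.x) 3) g * c.lift (off (Subgroup.zpowers A.y) 3) g := by
  simp only [Ctx.lift, off]
  set r := (c.exists_conj_pow_κ g).choose
  by_cases hx : r ∈ Subgroup.zpowers A.x
  · by_cases hy : r ∈ Subgroup.zpowers A.y
    · have hr : r = 1 := A.inf_eq_one hx hy
      simp [hr, one_mem]
    · have hr : r ≠ 1 := fun e => hy (e ▸ one_mem _)
      simp [hr, hx, hy]
      norm_num
  · have hr : r ≠ 1 := fun e => hx (e ▸ one_mem _)
    by_cases hy : r ∈ Subgroup.zpowers A.y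
    · simp [hr, hx, hy]
      norm_num
    · simp [hr, hx, hy]
      norm_num

theorem nine_mul_card_sec_xy : 9 * (c.sec (A.x * A.y)).card = Nat.card G := by
  refine c.nine_mul_card_sec (mul_mem A.x_mem A.y_mem) fun n hn he => ?_
  obtain ⟨hx, hy⟩ := A.act n hn
  have hsplit : n * A.x * n⁻¹ * (n * A.y * n⁻¹) = A.x * A.y := by
    calc n * A.x * n⁻¹ * (n * A.y * n⁻¹) = n * (A.x * A.y) * n⁻¹ := by group
      _ = _ := he
  have hfix : n * A.x * n⁻¹ = A.x := by
    refine mul_inv_eq_one.1 (A.inf_eq_one ?_ ?_)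
    · refine mul_mem ?_ (inv_mem (Subgroup.mem_zpowers _))
      rcases hx with h | h <;> rw [h]
      · exact Subgroup.mem_zpowers _
      · exact inv_mem (Subgroup.mem_zpowers _)
    · rw [show n * A.x * n⁻¹ * A.x⁻¹ = A.y * (n * A.y * n⁻¹)⁻¹ from ?_]
      · refine mul_mem (Subgroup.mem_zpowers _) (inv_mem ?_)
        rcases hy with h | h <;> rw [h]
        · exact Subgroup.mem_zpowers _
        · exact inv_mem (Subgroup.mem_zpowers _)
      · have hb : n * A.y * n⁻¹ ∈ (c.R : Subgroup G) :=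
          (Subgroup.mem_normalizer_iff.1 hn _).1 A.y_mem
        calc n * A.x * n⁻¹ * A.x⁻¹
            = n * A.x * n⁻¹ * (n * A.y * n⁻¹) * (n * A.y * n⁻¹)⁻¹ * A.x⁻¹ := by group
          _ = A.x * (A.y * (n * A.y * n⁻¹)⁻¹) * A.x⁻¹ := by rw [hsplit]; group
          _ = A.y * (n * A.y * n⁻¹)⁻¹ := by
            rw [c.comm A.x_mem (mul_mem A.y_mem (inv_mem hb))]; group
  have hfiy : n * A.y * n⁻¹ = A.y := mul_left_cancel (a := A.x) (by rw [← hsplit, hfix])
  refine Subgroup.mem_centralizer_iff.2 fun a ha => ?_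
  obtain ⟨i, j, rfl⟩ := A.exists_coords a ha
  refine (mul_inv_eq_iff_eq_mul.1 ?_).symm
  calc n * (A.x ^ (i : ℕ) * A.y ^ (j : ℕ)) * n⁻¹
      = n * A.x ^ (i : ℕ) * n⁻¹ * (n * A.y ^ (j : ℕ) * n⁻¹) := by group
    _ = _ := by rw [← conj_pow, ← conj_pow, hfix, hfiy]

/-- The mean of the lift is one. -/
theorem inner_one : Cfsg.classInner (c.lift (off (Subgroup.zpowers A.x) 3))
    (fun _ : G => (1 : ℂ)) = 1 := by
  classical
  have h3 : Nat.card (Subgroup.zpowers A.x) * 3 = 9 := by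
    rw [Nat.card_zpowers, orderOf_eq_prime (hp := ⟨Nat.prime_three⟩) A.x_three A.x_ne]
  obtain ⟨z, hz⟩ := classInner_gen (Ctx.isGen_lift (Ctx.invariant_off 3
    fun n hn a ha => (A.x_act hn ha).1) (Ctx.isGen_off _ A.x_le h3)) (isGen_one (G := G))
  suffices z = 1 by rw [hz, this, Int.cast_one]
  have hz' := hz
  rw [Ctx.classInner_one, inv_mul_eq_iff_eq_mul₀ Characters.natCard_ne_zero,
    Finset.sum_congr rfl fun g _ => A.lift_x_eq g, Finset.sum_add_distrib, sum_sec, sum_sec] at hz'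
  have hz'' : ((c.sec A.y).card : ℤ) * 3 + ((c.sec (A.x * A.y)).card : ℤ) * 3 =
      (Nat.card G : ℤ) * z := by exact_mod_cast hz'
  have h1 := A.nine_mul_card_sec_xy
  have h2 := c.three_mul_card_sec_le A.y_mem A.y_ne
  have h4 := c.sec_pos A.y_mem
  have hpos : 0 < (Nat.card G : ℤ) := by exact_mod_cast Nat.card_pos
  have hz0 : 0 < z := by
    by_contra h
    push Not at h
    nlinarith
  have hz2 : z < 2 := by
    by_contra h
    push Not at h
    nlinarith
  omega

/-- The axes in the other order. -/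
def swap : Axes c where
  x := A.y
  y := A.x
  r := A.s
  s := A.r
  x_mem := A.y_mem
  y_mem := A.x_mem
  x_three := A.y_three
  y_three := A.x_three
  x_ne := A.y_ne
  y_not := A.x_not_y
  r_x := A.s_y
  r_y := A.s_x
  s_x := A.r_y
  s_y := A.r_x
  act n hn := (A.act n hn).symm
  exists_coords a ha := by
    obtain ⟨i, j, rfl⟩ := A.exists_coords a ha
    exact ⟨j, i, c.comm (pow_mem A.x_mem _) (pow_mem A.y_mem _)⟩

include A in
theorem exists_good [IsSimpleGroup G] (hG : ¬ IsMulCommutative G) : Nonempty (Good c) := by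
  classical
  set α := c.lift (off (Subgroup.zpowers A.x) 3) with hα
  set β := c.lift (off (Subgroup.zpowers A.y) 3) with hβ
  have hcard : ∀ B : Axes c, Nat.card (Subgroup.zpowers B.x) * 3 = 9 := fun B => by
    rw [Nat.card_zpowers, orderOf_eq_prime (hp := ⟨Nat.prime_three⟩) B.x_three B.x_ne]
  have hgenX : ∀ B : Axes c, Cfsg.IsGeneralizedCharacter G
      (c.lift (off (Subgroup.zpowers B.x) 3)) := fun B =>
    Ctx.isGen_lift (Ctx.invariant_off 3 fun n hn a ha => (B.x_act hn ha).1)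
      (Ctx.isGen_off _ B.x_le (hcard B))
  have hgenα : Cfsg.IsGeneralizedCharacter G α := hgenX A
  have hgenβ : Cfsg.IsGeneralizedCharacter G β := hgenX A.swap
  have hgenψ : Cfsg.IsGeneralizedCharacter G (α * β) := isGen_mul hgenα hgenβ
  have h1α : Cfsg.classInner α (fun _ : G => (1 : ℂ)) = 1 := A.inner_one
  have h1β : Cfsg.classInner β (fun _ : G => (1 : ℂ)) = 1 := A.swap.inner_one
  have h3α : Cfsg.classInner α α = 3 := by rw [hα, Ctx.classInner_lift_self, h1α]; norm_num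
  have h3β : Cfsg.classInner β β = 3 := by rw [hβ, Ctx.classInner_lift_self, h1β]; norm_num
  obtain ⟨t⟩ := exists_triple hgenα h3α h1α
  have hψ : ∀ g, (α * β) g = if IsConj (g ^ c.κ) (A.x * A.y) then (9 : ℂ) else 0 := A.lift_mul_eq
  have hψ1 : Cfsg.classInner (α * β) (fun _ : G => (1 : ℂ)) = 1 := by
    rw [Ctx.classInner_one, inv_mul_eq_one₀ Characters.natCard_ne_zero,
      Finset.sum_congr rfl fun g _ => hψ g, sum_sec]
    have := A.nine_mul_card_sec_xy
    push_cast [← this]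
    ring
  have hψψ : Cfsg.classInner (α * β) (α * β) = 9 := by
    have h : Cfsg.classInner (α * β) (α * β) =
        9 * Cfsg.classInner (α * β) (fun _ : G => (1 : ℂ)) := by
      rw [Ctx.classInner_one]
      simp only [Cfsg.classInner, Finset.mul_sum]
      refine Finset.sum_congr rfl fun g _ => ?_
      rw [hψ]
      split_ifs <;> simp [map_ofNat]
      ring
    rw [h, hψ1, mul_one]
  have hβα : Cfsg.classInner β α = 1 := by
    rw [← hψ1, Ctx.classInner_one, Cfsg.classInner]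
    congr 1
    refine Finset.sum_congr rfl fun g _ => ?_
    rw [hα, Ctx.conj_lift_off, Pi.mul_apply, mul_comm]
  obtain ⟨e, he, hei⟩ := exists_int_coeff hgenβ
  obtain ⟨F, X, hF, hX, hF1, hX1, hdeg⟩ := t.degrees hG (by
    rw [hα, Ctx.lift_of_pow_κ_eq_one
      (Ctx.invariant_off 3 fun n hn a ha => (A.x_act hn ha).1) (one_pow _), Ctx.off_one])
  have hβsq : ∑ χ, e χ ^ 2 = 3 := by
    have := (classInner_self_eq_sum_sq (isClassFunction_of_isGen hgenβ) e hei).symm.trans h3β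
    exact_mod_cast this
  have he0 : e (trivChar G) = 1 := by
    have h := (hei (trivChar G)).symm.trans
      (show Cfsg.classInner β (trivChar G : G → ℂ) = 1 from h1β)
    exact_mod_cast h
  have hlin : t.ε * e t.f + t.ε' * e t.x = 0 := by
    have h := t.inner_right β
    rw [hβα, hei, hei, hei, he0] at h
    have h' : (1 : ℤ) = 1 + t.ε * e t.f + t.ε' * e t.x := by exact_mod_cast h
    linarith
  set S : Finset (Cfsg.IrrCharacter G) := {trivChar G, t.f, t.x} with hS
  have hsum : ∀ φ : Cfsg.IrrCharacter G → ℤ, ∑ χ ∈ S, φ χ = φ (trivChar G) + φ t.f + φ t.x := by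
    intro φ
    rw [hS, Finset.sum_insert (by simp [Ne.symm t.f_ne, Ne.symm t.x_ne]), Finset.sum_pair t.ne]
    ring
  have hle : e t.f ^ 2 + e t.x ^ 2 ≤ 2 := by
    have := Finset.sum_le_sum_of_subset_of_nonneg (f := fun χ => e χ ^ 2) (Finset.subset_univ S)
      fun _ _ _ => sq_nonneg _
    rw [hsum, he0, hβsq] at this
    linarith
  obtain ⟨huf, hux⟩ := axes_arith t.hε t.hε' (Nat.cast_ne_zero.2 (by omega : X ≠ 0))
    (Nat.cast_ne_zero.2 (by omega : F ≠ 0)) hlin hle hdeg fun h2 => by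
    have hzero : ∀ χ, χ ∉ S → e χ = 0 := by
      intro χ hχ
      by_contra hne
      have := Finset.sum_le_sum_of_subset_of_nonneg (f := fun χ => e χ ^ 2)
        (Finset.subset_univ (insert χ S)) fun _ _ _ => sq_nonneg _
      rw [Finset.sum_insert hχ, hsum, he0, hβsq] at this
      have : 0 < e χ ^ 2 := lt_of_le_of_ne (sq_nonneg _) (Ne.symm (pow_ne_zero 2 hne))
      linarith
    have h := congrFun he 1
    rw [hβ, Ctx.lift_of_pow_κ_eq_one
      (Ctx.invariant_off 3 fun n hn a ha => (A.x_act hn ha).2) (one_pow _), Ctx.off_one,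
      Finset.sum_apply, ← Finset.sum_subset (Finset.subset_univ S)
        fun χ _ hχ => by simp [hzero χ hχ], hS,
      Finset.sum_insert (by simp [Ne.symm t.f_ne, Ne.symm t.x_ne]), Finset.sum_pair t.ne] at h
    simp only [Pi.smul_apply, smul_eq_mul, he0, Int.cast_one, one_mul,
      PrincipalBlock.trivChar_apply, hF, hX, ← add_assoc] at h
    exact_mod_cast h.symm
  obtain ⟨a, ha, hai⟩ := exists_int_coeff hgenψ
  have hψsq : ∑ χ, a χ ^ 2 = 9 := by
    have := (classInner_self_eq_sum_sq (isClassFunction_of_isGen hgenψ) a hai).symm.trans hψψ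
    exact_mod_cast this
  have ha0 : a (trivChar G) = 1 := by
    have h := (hai (trivChar G)).symm.trans
      (show Cfsg.classInner (α * β) (trivChar G : G → ℂ) = 1 from hψ1)
    exact_mod_cast h
  have hbot : ∀ χ : Cfsg.IrrCharacter G, Cfsg.classInner (c.lift (off ⊥ 9)) (χ : G → ℂ) =
      3 * Cfsg.classInner α (χ : G → ℂ) + 3 * Cfsg.classInner β (χ : G → ℂ) -
        Cfsg.classInner (α * β) (χ : G → ℂ) := by
    intro χ
    rw [show c.lift (off ⊥ 9) = (3 : ℂ) • α + (3 : ℂ) • β - α * β from funext fun g => by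
      simpa [hα, hβ] using A.lift_bot_eq g]
    rw [classInner_sub_left, classInner_add_left, classInner_smul_left, classInner_smul_left]
  have hne : ∀ (χ : Cfsg.IrrCharacter G) (δ : ℤ), (δ = 1 ∨ δ = -1) → χ ≠ trivChar G →
      Cfsg.classInner α (χ : G → ℂ) = δ → e χ = 0 →
      Cfsg.classInner (c.lift (off ⊥ 9)) (χ : G → ℂ) ≠ 0 := by
    intro χ δ hδ hχ hαχ heχ h
    rw [hbot, hαχ, hei, heχ, hai] at h
    have h' : 3 * δ + 3 * 0 - a χ = 0 := by exact_mod_cast h
    have := Finset.sum_le_sum_of_subset_of_nonneg (f := fun χ => a χ ^ 2)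
      (Finset.subset_univ ({trivChar G, χ} : Finset (Cfsg.IrrCharacter G)))
      fun _ _ _ => sq_nonneg _
    rw [Finset.sum_pair (Ne.symm hχ), ha0, hψsq] at this
    rcases hδ with rfl | rfl <;> nlinarith
  exact ⟨⟨Subgroup.zpowers A.x, fun n hn a ha => (A.x_act hn ha).1, hgenα, t,
    hne _ _ t.hε t.f_ne t.inner_f huf, hne _ _ t.hε' t.x_ne t.inner_x hux⟩⟩

end Axes

end CfsgLib.NineTwoQ
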