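import Cfsg.Agent.Transfer.Abelian
import Mathlib.GroupTheory.SpecificGroups.Cyclic
import Mathlib.Tactic

/-!
# An abelian Sylow 3-subgroup of order nine

The basic data and the projection `g ↦ g ^ κ` on the 3-part.
-/

set_option autoImplicit false
set_option linter.style.haveILetI false
set_option linter.unusedSectionVars false

namespace CfsgLib.NineTwoQ

universe u

variable (G : Type u) [Group G]

/-- A Sylow 3-subgroup of order nine with the cofactor. -/
structure Ctx where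
  R : Sylow 3 G
  m : ℕ
  card_G : Nat.card G = m * 9
  not_dvd : ¬ 3 ∣ m

variable {G}

namespace Ctx

variable [Finite G] (c : Ctx G)

theorem m_pos : 0 < c.m := by
  refine Nat.pos_of_ne_zero fun h => c.not_dvd ?_
  rw [h]
  exact dvd_zero _

theorem coprime : Nat.Coprime c.m 9 := by
  rw [show (9 : ℕ) = 3 ^ 2 by norm_num]
  exact Nat.Coprime.pow_right _ ((Nat.prime_three.coprime_iff_not_dvd).2 c.not_dvd).symm

theorem card_R : Nat.card (c.R : Subgroup G) = 9 := by
  haveI : Fact (Nat.Prime 3) := ⟨Nat.prime_three⟩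
  rw [c.R.card_eq_multiplicity, c.card_G, Nat.factorization_mul c.m_pos.ne' (by norm_num),
    Finsupp.add_apply, Nat.factorization_eq_zero_of_not_dvd c.not_dvd,
    show (9 : ℕ) = 3 ^ 2 by norm_num, Nat.Prime.factorization_pow Nat.prime_three,
    Finsupp.single_eq_same, zero_add]

theorem isMulCommutative : IsMulCommutative (c.R : Subgroup G) := by
  haveI : Fact (Nat.Prime 3) := ⟨Nat.prime_three⟩
  exact IsPGroup.isMulCommutative_of_card_eq_prime_sq (p := 3) (by rw [c.card_R]; norm_num)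

theorem comm {a b : G} (ha : a ∈ (c.R : Subgroup G)) (hb : b ∈ (c.R : Subgroup G)) :
    a * b = b * a :=
  congrArg Subtype.val (c.isMulCommutative.is_comm.comm ⟨a, ha⟩ ⟨b, hb⟩)

theorem pow_nine {a : G} (ha : a ∈ (c.R : Subgroup G)) : a ^ 9 = 1 := by
  have := congrArg Subtype.val (pow_card_eq_one' (x := (⟨a, ha⟩ : (c.R : Subgroup G))))
  rwa [c.card_R] at this

theorem orderOf_dvd {a : G} (ha : a ∈ (c.R : Subgroup G)) : orderOf a ∣ 9 :=
  orderOf_dvd_of_pow_eq_one (c.pow_nine ha)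

/-- Fusion in the Sylow subgroup is induced by its normaliser. -/
theorem exists_normalizer_conj {a b : G} (ha : a ∈ (c.R : Subgroup G))
    (hb : b ∈ (c.R : Subgroup G)) (h : IsConj a b) :
    ∃ n ∈ Subgroup.normalizer ((c.R : Subgroup G) : Set G), n * a * n⁻¹ = b := by
  haveI : Fact (Nat.Prime 3) := ⟨Nat.prime_three⟩
  obtain ⟨g, rfl⟩ := isConj_iff.1 h
  exact Transfer.controlsFusion_normalizer_of_isMulCommutative c.R c.isMulCommutative a ha g hb

/-- A 3-element of the normaliser lies in the Sylow subgroup. -/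
theorem mem_of_normalizes {n : G}
    (hn : n ∈ Subgroup.normalizer ((c.R : Subgroup G) : Set G)) (h : n ^ 9 = 1) :
    n ∈ (c.R : Subgroup G) := by
  haveI : Fact (Nat.Prime 3) := ⟨Nat.prime_three⟩
  have hp : IsPGroup 3 (Subgroup.zpowers n) := by
    obtain ⟨i, -, hi⟩ := (Nat.dvd_prime_pow Nat.prime_three).1
      (show orderOf n ∣ 3 ^ 2 from orderOf_dvd_of_pow_eq_one h)
    exact IsPGroup.of_card (n := i) (by rw [Nat.card_zpowers, hi])
  have h2 := hp.to_sup_of_normal_right' c.R.isPGroup' (Subgroup.zpowers_le.2 hn)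
  rw [← c.R.3 h2 le_sup_right]
  exact Subgroup.mem_sup_left (Subgroup.mem_zpowers n)

theorem pow_m_mem {n : G} (hn : n ∈ Subgroup.normalizer ((c.R : Subgroup G) : Set G)) :
    n ^ c.m ∈ (c.R : Subgroup G) := by
  refine c.mem_of_normalizes (pow_mem hn _) ?_
  rw [← pow_mul, ← c.card_G, pow_card_eq_one']

/-- An element of the normaliser acts trivially or has order prime to three there. -/
theorem act_trivial_of_cube {n : G}
    (hn : n ∈ Subgroup.normalizer ((c.R : Subgroup G) : Set G))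
    (h : n ^ 3 ∈ Subgroup.centralizer ((c.R : Subgroup G) : Set G)) :
    n ∈ Subgroup.centralizer ((c.R : Subgroup G) : Set G) := by
  have h1 : n ^ c.m ∈ Subgroup.centralizer ((c.R : Subgroup G) : Set G) :=
    Subgroup.mem_centralizer_iff.2 fun a ha => c.comm ha (c.pow_m_mem hn)
  have hg : Nat.gcd 3 c.m = 1 := (Nat.prime_three.coprime_iff_not_dvd).2 c.not_dvd
  have hb := Nat.gcd_eq_gcd_ab 3 c.m
  rw [hg] at hb
  have : n = (n ^ 3) ^ Nat.gcdA 3 c.m * (n ^ c.m) ^ Nat.gcdB 3 c.m := by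
    rw [← zpow_natCast, ← zpow_natCast, ← zpow_mul, ← zpow_mul, ← zpow_add, ← hb]
    simp
  rw [this]
  exact mul_mem (zpow_mem h _) (zpow_mem h1 _)

/-- The exponent projecting on the 3-part. -/
noncomputable def κ : ℕ := (Nat.chineseRemainder c.coprime 0 1).1

theorem κ_zero : c.m ∣ c.κ :=
  Nat.modEq_zero_iff_dvd.1 (Nat.chineseRemainder c.coprime 0 1).2.1

theorem κ_one : c.κ ≡ 1 [MOD 9] := (Nat.chineseRemainder c.coprime 0 1).2.2

theorem pow_κ_of_nine {a : G} (ha : a ^ 9 = 1) : a ^ c.κ = a := by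
  conv_rhs => rw [← pow_one a]
  exact pow_eq_pow_iff_modEq.2 (c.κ_one.of_dvd (orderOf_dvd_of_pow_eq_one ha))

theorem pow_κ_nine (g : G) : (g ^ c.κ) ^ 9 = 1 := by
  obtain ⟨j, hj⟩ := c.κ_zero
  rw [← pow_mul, hj, show c.m * j * 9 = Nat.card G * j by rw [c.card_G]; ring, pow_mul,
    pow_card_eq_one', one_pow]

/-- An element has trivial 3-part exactly when three does not divide its order. -/
theorem pow_κ_eq_one_iff (g : G) : g ^ c.κ = 1 ↔ ¬ 3 ∣ orderOf g := by
  constructor
  · intro h h3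
    have h1 := orderOf_dvd_of_pow_eq_one h
    have h2 : ¬ 3 ∣ c.κ := fun hd => by
      have := (c.κ_one.of_dvd (show 3 ∣ 9 by norm_num)).symm.trans
        (Nat.modEq_zero_iff_dvd.2 hd)
      exact absurd (Nat.modEq_zero_iff_dvd.1 this) (by norm_num)
    exact h2 (h3.trans h1)
  · intro h
    refine orderOf_dvd_iff_pow_eq_one.1 (Dvd.dvd.trans ?_ c.κ_zero)
    refine (Nat.Coprime.pow_right 2 ((Nat.prime_three.coprime_iff_not_dvd).2 h).symm
      ).dvd_of_dvd_mul_right ?_
    rw [show c.m * 3 ^ 2 = Nat.card G by rw [c.card_G]; norm_num]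
    exact orderOf_dvd_natCard g

/-- Each element of exponent nine is conjugate into the Sylow subgroup. -/
theorem exists_mem_isConj {g : G} (hg : g ^ 9 = 1) :
    ∃ k ∈ (c.R : Subgroup G), IsConj g k := by
  haveI : Fact (Nat.Prime 3) := ⟨Nat.prime_three⟩
  have hp : IsPGroup 3 (Subgroup.zpowers g) := by
    obtain ⟨i, -, hi⟩ := (Nat.dvd_prime_pow Nat.prime_three).1
      (show orderOf g ∣ 3 ^ 2 from orderOf_dvd_of_pow_eq_one hg)
    exact IsPGroup.of_card (n := i) (by rw [Nat.card_zpowers, hi])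
  obtain ⟨Q, hQ⟩ := hp.exists_le_sylow
  obtain ⟨a, ha⟩ := MulAction.exists_smul_eq G Q c.R
  refine ⟨a * g * a⁻¹, ?_, isConj_iff.2 ⟨a, rfl⟩⟩
  rw [← ha, Sylow.coe_subgroup_smul]
  exact ⟨g, hQ (Subgroup.mem_zpowers g), rfl⟩

theorem exists_conj_pow_κ (g : G) : ∃ k ∈ (c.R : Subgroup G), IsConj (g ^ c.κ) k :=
  c.exists_mem_isConj (c.pow_κ_nine g)

/-- In a perfect group the normaliser fixes no nontrivial element of the Sylow subgroup. -/
theorem eq_one_of_fixed (hperf : commutator G = ⊤) {a : G} (ha : a ∈ (c.R : Subgroup G))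
    (hfix : ∀ n ∈ Subgroup.normalizer ((c.R : Subgroup G) : Set G), n * a * n⁻¹ = a) : a = 1 := by
  haveI : Fact (Nat.Prime 3) := ⟨Nat.prime_three⟩
  set N := Subgroup.normalizer ((c.R : Subgroup G) : Set G)
  have hle : (c.R : Subgroup G) ≤ N := Subgroup.le_normalizer
  have h1 : a ∈ ⁅(c.R : Subgroup G), N⁆ := by
    show a ∈ ⁅(c.R : Subgroup G), Subgroup.normalizer ((c.R : Subgroup G) : Set G)⁆
    erw [← Transfer.commutator_inf_eq_commutator_normalizer c.R c.isMulCommutative]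
    rw [hperf]
    exact ⟨Subgroup.mem_top _, ha⟩
  let R' : Sylow 3 N := c.R.subtype hle
  have hc : IsMulCommutative (R' : Subgroup N) :=
    ⟨⟨fun x y => Subtype.ext (Subtype.ext (c.comm (Subgroup.mem_subgroupOf.1 x.2)
      (Subgroup.mem_subgroupOf.1 y.2)))⟩⟩
  have h2 := Transfer.inf_commutator_inf_center_eq_bot (R' : Subgroup N) hc R'.card_coprime_index
  have h3 : (⟨a, hle ha⟩ : N) ∈ (⊥ : Subgroup N) := by
    rw [← h2]
    refine ⟨⟨Subgroup.mem_subgroupOf.2 ha, ?_⟩, Subgroup.mem_center_iff.2 fun n => Subtype.ext ?_⟩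
    · have h4 : a ∈ (commutator N).map N.subtype := by
        rw [Subgroup.map_subtype_commutator]
        exact Subgroup.commutator_mono hle le_rfl h1
      obtain ⟨x, hx, hxa⟩ := h4
      rwa [show x = (⟨a, hle ha⟩ : N) from Subtype.ext hxa] at hx
    · exact mul_inv_eq_iff_eq_mul.1 (hfix n n.2)
  exact congrArg Subtype.val (Subgroup.mem_bot.1 h3)

end Ctx

end CfsgLib.NineTwoQ
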