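import Cfsg.Agent.NineTwoQ.QSide
import Cfsg.Agent.Characters.Orthogonality

/-!
# Small odd degrees are exceptional; no prime from 127 on occurs
-/

set_option autoImplicit false
set_option linter.style.haveILetI false
set_option linter.unusedSectionVars false

namespace CfsgLib.NineTwoQ

open CfsgLib.Characters CfsgLib.PrincipalBlock
open scoped ComplexConjugate

universe u

variable {G : Type u} [Group G] [Fintype G]

namespace QData

variable {P : Subgroup G} {q : ℕ} (D : QData P q)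

theorem e_lt (hq : 2 ≤ q) : D.e + 1 ≤ q := by
  have h := D.ke
  have := Nat.le_mul_of_pos_left D.e D.k_pos
  omega

/-- The shifted exceptional multiplicity is small. -/
theorem shift_sq_le : (D.β + D.σ) * (D.β + D.σ) ≤ D.e := by
  have h := D.norm_bound {trivChar G} (by simpa using D.triv_not)
  rw [Finset.sum_singleton, D.b_triv, one_mul] at h
  have hk : D.β * D.β ≤ (D.k : ℤ) * (D.β * D.β) :=
    le_mul_of_one_le_left (mul_self_nonneg _) (by exact_mod_cast D.k_pos)
  have hσ : D.σ * D.σ = 1 := by rcases D.hσ with e | e <;> rw [e] <;> norm_num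
  nlinarith

/-- A multiplicity off the exceptional set is small. -/
theorem b_sq_le (hq : 2 ≤ q) {χ : Cfsg.IrrCharacter G} (h : χ ∉ D.X) :
    D.b χ * D.b χ ≤ (q : ℤ) := by
  have h1 := D.norm_bound {χ} (by simpa using h)
  rw [Finset.sum_singleton] at h1
  have hk : D.β * D.β ≤ (D.k : ℤ) * (D.β * D.β) :=
    le_mul_of_one_le_left (mul_self_nonneg _) (by exact_mod_cast D.k_pos)
  have h2 : (D.e : ℤ) + 1 ≤ q := by exact_mod_cast D.e_lt hq
  rcases D.hσ with e | e <;> rw [e] at h1 <;>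
    nlinarith [mul_self_nonneg (D.β + 1), mul_self_nonneg (D.β - 1)]

open Classical in
/-- Some nonprincipal term of the degree relation is odd. -/
theorem exists_odd_term : ∃ χ, χ ≠ trivChar G ∧
    ((χ ∈ D.X ∧ Odd D.d ∧ Odd ((D.k : ℤ) * D.β + D.σ)) ∨
      (χ ∉ D.X ∧ Odd (D.b χ * (D.dg χ : ℤ)))) := by
  obtain ⟨ψ, hψ⟩ := Finset.card_pos.1 (D.card_X ▸ D.k_pos : 0 < D.X.card)
  have hψne : ψ ≠ trivChar G := fun e => D.triv_not (e ▸ hψ)
  by_cases hd : Odd (((D.k : ℤ) * D.β + D.σ) * (D.d : ℤ))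
  · rw [Int.odd_mul, Int.odd_coe_nat] at hd
    exact ⟨ψ, hψne, Or.inl ⟨hψ, hd.2, hd.1⟩⟩
  by_contra hno
  have e1 : D.dg (trivChar G) = 1 := by
    have := (D.deg (trivChar G)).symm.trans (trivChar_apply (G := G) 1)
    exact_mod_cast this
  have hX : ∑ χ ∈ D.X, D.b χ * (D.dg χ : ℤ) = (D.k : ℤ) * (D.β * (D.d : ℤ)) := by
    rw [Finset.sum_congr rfl (g := fun _ => D.β * (D.d : ℤ))
      fun χ hχ => by rw [(D.on_X χ hχ).1, (D.on_X χ hχ).2.1],
      Finset.sum_const, D.card_X, nsmul_eq_mul]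
  have hev : Even (∑ χ ∈ (Finset.univ \ D.X).erase (trivChar G), D.b χ * (D.dg χ : ℤ)) := by
    refine Finset.even_sum _ fun χ hχ => ?_
    by_contra hodd
    exact hno ⟨χ, Finset.ne_of_mem_erase hχ,
      Or.inr ⟨(Finset.mem_sdiff.1 (Finset.mem_of_mem_erase hχ)).2, Int.not_even_iff_odd.1 hodd⟩⟩
  have hrel := D.deg_rel
  rw [D.sum_split, hX, ← Finset.add_sum_erase _ _
    (Finset.mem_sdiff.2 ⟨Finset.mem_univ _, D.triv_not⟩ : trivChar G ∈ Finset.univ \ D.X),
    D.b_triv, e1] at hrel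
  push_cast at hrel
  have h := hev.add (Int.not_odd_iff_even.1 hd)
  rw [show (∑ χ ∈ (Finset.univ \ D.X).erase (trivChar G), D.b χ * (D.dg χ : ℤ)) +
    ((D.k : ℤ) * D.β + D.σ) * (D.d : ℤ) = -1 by linarith] at h
  exact absurd h (by decide)

/-- A nonprincipal character has degree three or nine. -/
theorem exists_small_odd {a : ℕ} (hq : q.Prime) (hq5 : 5 ≤ q)
    (hcard : Nat.card G = 9 * 2 ^ a * q) :
    ∃ χ, χ ≠ trivChar G ∧ (D.dg χ = 3 ∨ D.dg χ = 9) := by
  obtain ⟨χ, hne, hχ⟩ := D.exists_odd_term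
  refine ⟨χ, hne, ?_⟩
  have hodd : Odd (D.dg χ) := by
    rcases hχ with ⟨h, h', -⟩ | ⟨-, h⟩
    · rwa [(D.on_X χ h).2.1]
    · rw [Int.odd_mul, Int.odd_coe_nat] at h
      exact h.2
  suffices hnq : ¬ q ∣ D.dg χ by
    have h9 : D.dg χ ∣ 9 := (Nat.Coprime.pow_right a (Nat.coprime_two_right.2 hodd)
      ).dvd_of_dvd_mul_right ((hq.coprime_iff_not_dvd.2 hnq).symm.dvd_of_dvd_mul_right
        (hcard ▸ D.dg_dvd χ))
    have h1 := D.dg_gt χ hne
    have := Nat.le_of_dvd (by norm_num) h9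
    interval_cases hd : D.dg χ <;> omega
  intro hdvd
  have hdvd' : (q : ℤ) ∣ (D.dg χ : ℤ) := by exact_mod_cast hdvd
  have hq5' : (5 : ℤ) ≤ q := by exact_mod_cast hq5
  rcases hχ with ⟨hX, -, hpar⟩ | ⟨hX, hb⟩
  · obtain ⟨-, h2, h3⟩ := D.on_X χ hX
    rw [← h2] at h3
    have hz : (q : ℤ) ∣ D.β - D.σ * (D.e : ℤ) := by
      have := dvd_sub hdvd' h3
      simpa using this
    set γ := D.β + D.σ with hγ
    have hsq := D.shift_sq_le
    rw [← hγ] at hsq
    have hke : (D.k : ℤ) * D.e = q - 1 := by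
      have h := D.ke
      zify [hq.one_le] at h
      exact h
    have hz' : (q : ℤ) ∣ D.σ * γ - (D.e + 1) := by
      have hσ : D.σ * D.σ = 1 := by rcases D.hσ with e | e <;> rw [e] <;> norm_num
      have := hz.mul_left D.σ
      rwa [show D.σ * γ - ((D.e : ℤ) + 1) = D.σ * (D.β - D.σ * (D.e : ℤ)) by
        rw [hγ]; linear_combination ((D.e : ℤ) + 1) * hσ]
    have he2 : (2 : ℤ) ≤ D.e := by exact_mod_cast D.e_two
    rcases Nat.lt_or_ge 1 D.k with hk | hk
    · have he : 2 * (D.e : ℤ) ≤ q - 1 := by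
        rw [← hke]
        exact mul_le_mul_of_nonneg_right (by exact_mod_cast hk) (by linarith)
      obtain ⟨m, hm⟩ := hz'
      have hs : (D.σ * γ) * (D.σ * γ) ≤ D.e := by
        rcases D.hσ with e | e <;> rw [e] <;> linarith
      generalize D.σ * γ = δ at hm hs
      rcases lt_trichotomy m 0 with hm0 | hm0 | hm0
      · have : (q : ℤ) * m ≤ q * (-1) := mul_le_mul_of_nonneg_left (by omega) (by linarith)
        nlinarith
      · subst hm0
        have hδ : δ = D.e + 1 := by linarith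
        subst hδ
        nlinarith
      · have : (q : ℤ) * 1 ≤ q * m := mul_le_mul_of_nonneg_left (by omega) (by linarith)
        nlinarith
    · have hk1 : D.k = 1 := le_antisymm hk D.k_pos
      rw [hk1, Nat.cast_one, one_mul] at hke hpar
      rw [← hγ] at hpar
      rw [hke, sub_add_cancel, dvd_sub_self_right] at hz'
      have h1 : (q : ℤ) ∣ γ := by
        rcases D.hσ with e | e <;> rw [e] at hz' <;> simpa using hz'
      have h0 : γ = 0 := Int.eq_zero_of_abs_lt_dvd h1 (abs_lt.2 ⟨by nlinarith, by nlinarith⟩)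
      rw [h0] at hpar
      exact absurd hpar (by decide)
  · have hb' : (q : ℤ) ∣ D.b χ := by
      have := dvd_sub hdvd' (D.off_X χ hX)
      simpa using this
    have hs := D.b_sq_le hq.two_le hX
    rw [Int.eq_zero_of_abs_lt_dvd hb' (abs_lt.2 ⟨by nlinarith, by nlinarith⟩), zero_mul] at hb
    exact absurd hb (by decide)

end QData

variable [IsSimpleGroup G]

/-- A column total that is the full degree is impossible. -/
theorem column_lt (hG : ¬ IsMulCommutative G) (χ : Cfsg.IrrCharacter G) (hne : χ ≠ trivChar G)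
    {n : ℕ} (hn : (χ : G → ℂ) 1 = n) {P : Subgroup G} {q : ℕ} (hP : Nat.card P = q) (hq : 2 ≤ q)
    {z : ℤ} (hz : ∑ g ∈ punct P, conj ((χ : G → ℂ) g) = z) : z < ((q - 1 : ℕ) : ℤ) * n := by
  have hne' : (punct P).Nonempty := Finset.card_pos.1 (by rw [card_punct hP]; omega)
  have h1 : ∀ g ∈ punct P, ‖conj ((χ : G → ℂ) g)‖ < (n : ℝ) := fun g hg => by
    rw [RCLike.norm_conj]
    refine lt_of_le_of_ne ?_ (norm_apply_ne_degree hG χ hne hn (mem_punct.1 hg).2)
    obtain ⟨k, ρ, -, hρ⟩ := χ.2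
    have h2 := Characters.norm_char_le (ρ := ρ) g
    have hk : (k : ℂ) = n := by
      rw [← hn, ← hρ, Representation.char_one, Module.finrank_fin_fun]
    rwa [hρ, Module.finrank_fin_fun, show k = n by exact_mod_cast hk] at h2
  have h2 := (norm_sum_le (punct P) fun g => conj ((χ : G → ℂ) g)).trans_lt
    (Finset.sum_lt_sum_of_nonempty hne' h1)
  rw [hz, Complex.norm_intCast, Finset.sum_const, card_punct hP, nsmul_eq_mul] at h2
  have h3 : (z : ℝ) < ((q - 1 : ℕ) : ℝ) * n := (le_abs_self _).trans_lt h2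
  exact_mod_cast h3

namespace QData

variable {P : Subgroup G} {q : ℕ} (D : QData P q)

/-- A nonprincipal character of small degree is exceptional. -/
theorem mem_X_of_small (hG : ¬ IsMulCommutative G) (hP : Nat.card P = q) (hq : 2 ≤ q)
    {χ : Cfsg.IrrCharacter G} (hne : χ ≠ trivChar G)
    (hsm : ∀ b : ℤ, b * b ≤ (q : ℤ) → (D.dg χ : ℤ) + |b| < q) : χ ∈ D.X := by
  by_contra hX
  have h1 := hsm _ (D.b_sq_le hq hX)
  have hb : (D.dg χ : ℤ) - D.b χ = 0 := Int.eq_zero_of_abs_lt_dvd (D.off_X χ hX)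
    (lt_of_le_of_lt ((abs_sub _ _).trans (by rw [Nat.abs_cast])) h1)
  have hlt := column_lt hG χ hne (D.deg χ) hP hq (D.column_eq χ)
  rw [D.colVal_of_not_mem hX, Nat.cast_sub (by omega), Nat.cast_one,
    show D.b χ = (D.dg χ : ℤ) by linarith] at hlt
  exact lt_irrefl _ hlt

include D in
/-- A prime of at least 127 does not occur. -/
theorem false_of_big (hG : ¬ IsMulCommutative G) (hP : Nat.card P = q) {a : ℕ} (hq : q.Prime)
    (hbig : 127 ≤ q) (hcard : Nat.card G = 9 * 2 ^ a * q) : False := by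
  classical
  have hbig' : (127 : ℤ) ≤ q := by exact_mod_cast hbig
  have hmem : ∀ φ, φ ≠ trivChar G → D.dg φ ≤ 81 → φ ∈ D.X := fun φ hne hle =>
    D.mem_X_of_small hG hP hq.two_le hne fun b hb => by
      have h81 : (D.dg φ : ℤ) ≤ 81 := by exact_mod_cast hle
      have h3 : 3 * |b| ≤ (q : ℤ) := by
        rcases le_or_gt |b| 2 with h | h
        · linarith
        · have := mul_le_mul_of_nonneg_right (show 3 ≤ |b| by omega) (abs_nonneg b)
          rw [← abs_mul_abs_self b] at hb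
          linarith
      linarith
  obtain ⟨ψ, hne, hd⟩ := D.exists_small_odd hq (by omega) hcard
  have hψX := hmem ψ hne (by omega)
  have hdd : D.d = D.dg ψ := (D.on_X ψ hψX).2.1.symm
  set θ : G → ℂ := (ψ : G → ℂ) * fun g => conj ((ψ : G → ℂ) g) with hθ
  have hθch : Cfsg.IsCharacter G θ := isCharacter_mul (isCharacter_of_isIrr ψ.2)
    (isCharacter_conj (isCharacter_of_isIrr ψ.2))
  obtain ⟨m, hm⟩ := exists_nat_coeff hθch
  have hm1 : m (trivChar G) = 1 := by
    have h1 : Cfsg.classInner θ (trivChar G : G → ℂ) = 1 := by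
      rw [← classInner_isIrr_self ψ.2]
      simp [Cfsg.classInner, hθ, trivChar_apply]
    rw [hm, classInner_irr_coeff] at h1
    exact_mod_cast h1
  have hval := congrFun hm 1
  simp only [Finset.sum_apply, Pi.smul_apply, smul_eq_mul, hθ, Pi.mul_apply, D.deg,
    map_natCast] at hval
  have hN : D.dg ψ * D.dg ψ = ∑ φ, m φ * D.dg φ := by exact_mod_cast hval
  rw [← Finset.add_sum_erase _ _ (Finset.mem_univ (trivChar G)), hm1] at hN
  have e1 : D.dg (trivChar G) = 1 := by
    have := (D.deg (trivChar G)).symm.trans (trivChar_apply (G := G) 1)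
    exact_mod_cast this
  rw [e1] at hN
  have hdvd : D.dg ψ ∣ ∑ φ ∈ Finset.univ.erase (trivChar G), m φ * D.dg φ := by
    refine Finset.dvd_sum fun φ hφ => ?_
    rcases Nat.eq_zero_or_pos (m φ) with h0 | h0
    · simp [h0]
    have hle : D.dg φ ≤ 81 := by
      have h2 := Finset.single_le_sum (f := fun x => m x * D.dg x) (fun _ _ => Nat.zero_le _) hφ
      have h3 := Nat.le_mul_of_pos_left (D.dg φ) h0
      have h4 : D.dg ψ * D.dg ψ ≤ 81 := by rcases hd with e | e <;> rw [e] <;> norm_num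
      omega
    rw [(D.on_X φ (hmem φ (Finset.ne_of_mem_erase hφ) hle)).2.1, hdd]
    exact dvd_mul_left _ _
  obtain ⟨t, ht⟩ := hdvd
  rw [ht] at hN
  rcases hd with e | e <;> rw [e] at hN <;> omega

end QData

end CfsgLib.NineTwoQ
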