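import Cfsg.Agent.NineTwoQ.Values
import Cfsg.Agent.Small.DegreeEquation
import Cfsg.Agent.Small.SylowArgs

/-!
# The exceptional data of a self-centralising Sylow subgroup of order `q`
-/

set_option autoImplicit false
set_option linter.style.haveILetI false
set_option linter.unusedSectionVars false

namespace CfsgLib.NineTwoQ

open CfsgLib.Characters CfsgLib.PrincipalBlock
open scoped ComplexConjugate

universe u

variable {G : Type u} [Group G] [Fintype G]

open Classical in
/-- The nonidentity elements of a subgroup. -/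
noncomputable def punct (P : Subgroup G) : Finset G :=
  Finset.univ.filter fun g => g ∈ P ∧ g ≠ 1

theorem mem_punct {P : Subgroup G} {g : G} : g ∈ punct P ↔ g ∈ P ∧ g ≠ 1 := by
  classical
  simp [punct]

theorem card_punct {P : Subgroup G} {q : ℕ} (hP : Nat.card P = q) : (punct P).card = q - 1 := by
  classical
  rw [← hP, Nat.card_eq_fintype_card, Fintype.card_subtype,
    ← Finset.card_erase_of_mem (a := (1 : G))
      (Finset.mem_filter.2 ⟨Finset.mem_univ _, one_mem P⟩)]
  congr 1
  ext g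
  simp [mem_punct, and_comm]

/-- The data of `Small.Degree.exists_data` at a Sylow subgroup of prime order `q`. -/
structure QData (P : Subgroup G) (q : ℕ) where
  e : ℕ
  k : ℕ
  n : ℕ
  e_two : 2 ≤ e
  k_pos : 1 ≤ k
  ke : k * e = q - 1
  card_N : Nat.card (Subgroup.normalizer (P : Set G)) = q * e
  n_mod : n % q = 1
  n_mul : n * (q * e) = Nat.card G
  b : Cfsg.IrrCharacter G → ℤ
  dg : Cfsg.IrrCharacter G → ℕ
  X : Finset (Cfsg.IrrCharacter G)
  σ : ℤ
  β : ℤ
  d : ℕ
  hσ : σ = 1 ∨ σ = -1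
  card_X : X.card = k
  triv_not : trivChar G ∉ X
  b_triv : b (trivChar G) = 1
  deg : ∀ χ : Cfsg.IrrCharacter G, (χ : G → ℂ) 1 = dg χ
  dg_dvd : ∀ χ, dg χ ∣ Nat.card G
  dg_gt : ∀ χ, χ ≠ trivChar G → 1 < dg χ
  off_X : ∀ χ, χ ∉ X → (q : ℤ) ∣ (dg χ : ℤ) - b χ
  on_X : ∀ χ ∈ X, b χ = β ∧ dg χ = d ∧ (q : ℤ) ∣ (d : ℤ) - (β - σ * (e : ℤ))
  norm_b : ∑ χ, b χ * b χ = (e : ℤ) - 2 * σ * β
  deg_rel : ∑ χ, b χ * (dg χ : ℤ) + σ * (d : ℤ) = 0
  val_rel : ∀ t : G, (∀ g : G, g * t * g⁻¹ ∉ P) → ∀ ψ ∈ X,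
    ∑ χ, (b χ : ℂ) * (χ : G → ℂ) t + (σ : ℂ) * (ψ : G → ℂ) t = 0
  column : ∀ χ : Cfsg.IrrCharacter G, ∑ g ∈ punct P, conj ((χ : G → ℂ) g) =
    ((((q : ℤ) - 1) * b χ + (letI := Classical.decEq (Cfsg.IrrCharacter G);
      if χ ∈ X then σ * (e : ℤ) else 0) : ℤ) : ℂ)

theorem exists_qdata [IsSimpleGroup G] (hG : ¬ IsMulCommutative G) {q : ℕ} (hq : q.Prime)
    {P : Subgroup G} (hP : Nat.card P = q) (hC : Subgroup.centralizer (P : Set G) = P)
    (hq2 : ¬ q ^ 2 ∣ Nat.card G) : Nonempty (QData P q) := by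
  classical
  haveI : Fact q.Prime := ⟨hq⟩
  obtain ⟨S, hS⟩ := (IsPGroup.of_card (p := q) (n := 1) (by rw [hP, pow_one]) :
    IsPGroup q P).exists_le_sylow
  have hScard : Nat.card (S : Subgroup G) = q := by
    obtain ⟨l, hl⟩ := IsPGroup.iff_card.1 S.isPGroup'
    have hd : Nat.card (S : Subgroup G) ∣ Nat.card G := Subgroup.card_subgroup_dvd_card _
    have h1 := Subgroup.card_le_of_le hS
    rw [hP, hl] at h1
    rw [hl] at hd ⊢
    have hl2 : l < 2 := by
      by_contra h
      exact hq2 ((pow_dvd_pow q (by omega)).trans hd)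
    interval_cases l
    · rw [pow_zero] at h1
      have := hq.two_le
      omega
    · rw [pow_one]
  have hPS : P = (S : Subgroup G) := Subgroup.eq_of_le_of_card_ge hS (by rw [hP, hScard])
  set N := Subgroup.normalizer (P : Set G)
  set e := Nat.card (Small.Degree.scaleHom hP).range with he
  have hN : Nat.card N = q * e := by
    have h := Subgroup.card_mul_index (Small.Degree.scaleHom hP).ker
    rw [Subgroup.index_ker, Small.Degree.card_ker_scaleHom hP hC, ← he] at h
    exact h.symm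
  have hed : e ∣ q - 1 := by
    have := Subgroup.card_subgroup_dvd_card (Small.Degree.scaleHom hP).range
    rwa [Nat.card_eq_fintype_card (α := (ZMod q)ˣ), ZMod.card_units] at this
  obtain ⟨k, hk⟩ := hed
  have hk1 : 1 ≤ k := by
    rcases Nat.eq_zero_or_pos k with h | h
    · rw [h, mul_zero] at hk
      have := hq.two_le
      omega
    · exact h
  have he2 : 2 ≤ e := by
    by_contra h
    have he1 : e = 1 := by
      have : 0 < e := Nat.card_pos
      omega
    refine Small.not_normalizer_le_centralizer hG (hScard ▸ Subgroup.card_subgroup_dvd_card _) S ?_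
    rw [← hPS, hC]
    exact (Subgroup.eq_of_le_of_card_ge (Subgroup.le_normalizer (H := P))
      (by rw [hP, hN, he1, mul_one])).ge
  have hn := Small.card_sylow_mul_card_normalizer S
  rw [← hPS, hN] at hn
  obtain ⟨b, dg, X, χ₀, σ, β, d, hσ, hX, hχ₀, hb₀, hχ₀', hall, hnorm, hrel, hval, hcol⟩ :=
    Small.Degree.exists_data hG P hP hC e k hN (by rw [mul_comm]; exact hk.symm) hk1
  have hχ : χ₀ = trivChar G := Subtype.ext (funext hχ₀')
  subst hχ
  exact ⟨{
    e := e, k := k, n := Nat.card (Sylow q G), e_two := he2, k_pos := hk1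
    ke := by rw [mul_comm]; exact hk.symm
    card_N := hN, n_mod := Small.card_sylow_mod q, n_mul := hn
    b := b, dg := dg, X := X, σ := σ, β := β, d := d, hσ := hσ, card_X := hX
    triv_not := hχ₀, b_triv := hb₀
    deg := fun χ => (hall χ).1
    dg_dvd := fun χ => (hall χ).2.1
    dg_gt := fun χ => (hall χ).2.2.1
    off_X := fun χ => (hall χ).2.2.2.1
    on_X := fun χ hχ => by
      obtain ⟨h1, h2, h3⟩ := (hall χ).2.2.2.2 hχ
      exact ⟨h1, h2, h2 ▸ h3⟩
    norm_b := hnorm, deg_rel := hrel, val_rel := hval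
    column := fun χ => by
      have h := hcol χ
      simp only [punct]
      convert h }⟩

namespace QData

variable {P : Subgroup G} {q : ℕ} (D : QData P q)

open Classical in
/-- The characters outside `X` and those in `X` separately. -/
theorem sum_split (f : Cfsg.IrrCharacter G → ℤ) :
    ∑ χ, f χ = (∑ χ ∈ Finset.univ \ D.X, f χ) + ∑ χ ∈ D.X, f χ :=
  (Finset.sum_sdiff (Finset.subset_univ _)).symm

/-- The multiplicities outside `X`. -/
theorem norm_bound (S : Finset (Cfsg.IrrCharacter G)) (hS : ∀ χ ∈ S, χ ∉ D.X) :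
    ∑ χ ∈ S, D.b χ * D.b χ + ((D.k : ℤ) * (D.β * D.β) + 2 * D.σ * D.β) ≤ D.e := by
  classical
  have h := D.norm_b
  have hX : ∑ χ ∈ D.X, D.b χ * D.b χ = (D.k : ℤ) * (D.β * D.β) := by
    rw [Finset.sum_congr rfl (g := fun _ => D.β * D.β) fun χ hχ => by rw [(D.on_X χ hχ).1],
      Finset.sum_const, D.card_X, nsmul_eq_mul]
  rw [D.sum_split, hX] at h
  have hle := Finset.sum_le_sum_of_subset_of_nonneg (f := fun χ => D.b χ * D.b χ)
    (show S ⊆ Finset.univ \ D.X from fun χ hχ => by simp [hS χ hχ]) fun _ _ _ => mul_self_nonneg _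
  linarith

open Classical in
/-- The total over the punctured subgroup of the conjugate values. -/
noncomputable def colVal (χ : Cfsg.IrrCharacter G) : ℤ :=
  ((q : ℤ) - 1) * D.b χ + if χ ∈ D.X then D.σ * (D.e : ℤ) else 0

theorem colVal_of_mem {χ : Cfsg.IrrCharacter G} (h : χ ∈ D.X) :
    D.colVal χ = ((q : ℤ) - 1) * D.β + D.σ * (D.e : ℤ) := by
  classical
  simp [colVal, h, (D.on_X χ h).1]

theorem colVal_of_not_mem {χ : Cfsg.IrrCharacter G} (h : χ ∉ D.X) :
    D.colVal χ = ((q : ℤ) - 1) * D.b χ := by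
  classical
  simp [colVal, h]

theorem column_eq (χ : Cfsg.IrrCharacter G) :
    ∑ g ∈ punct P, conj ((χ : G → ℂ) g) = (D.colVal χ : ℂ) := by
  rw [D.column]
  simp only [colVal]
  congr!

/-- The weighted class product at the punctured subgroup. -/
theorem sum_pairCount (z : G) :
    (Nat.card (Subgroup.centralizer ({z} : Set G)) : ℂ) ^ 2 *
        ((∑ g ∈ punct P, pairCount z g : ℕ) : ℂ) =
      (Nat.card G : ℂ) * ∑ χ : Cfsg.IrrCharacter G, (D.colVal χ : ℂ) *
            ((χ : G → ℂ) z * (χ : G → ℂ) z / (χ : G → ℂ) 1) := by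
  classical
  have hite : ∀ f : G → ℂ, ∑ g : G, (if g ∈ punct P then 1 else 0) * f g = ∑ g ∈ punct P, f g := by
    intro f
    simp only [ite_mul, one_mul, zero_mul]
    rw [Finset.sum_ite_mem, Finset.univ_inter]
  have h := sum_mul_pairCount z (fun g => if g ∈ punct P then (1 : ℂ) else 0)
  simp only [hite, D.column_eq] at h
  push_cast
  rw [h]

/-- The number of pairs at a point of the subgroup is at most `q (e - 1)`. -/
theorem pairCount_le (hP : Nat.card P = q) (hall : ∀ g ∈ P, g ≠ 1 →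
      Subgroup.centralizer ({g} : Set G) = P) (hodd : Odd q) {z g : G} (hz : orderOf z = 2)
    (hg : g ∈ punct P) : pairCount z g ≤ q * (D.e - 1) := by
  classical
  obtain ⟨hgP, hg1⟩ := mem_punct.1 hg
  have hmem : ∀ w : {w : G // IsConj z w ∧ IsConj z (w⁻¹ * g)},
      (w : G) ∈ (Finset.univ.filter fun v => v ∈ Subgroup.normalizer (P : Set G)) \
        (Finset.univ.filter fun v => v ∈ P) := by
    rintro ⟨w, h1, h2⟩
    obtain ⟨hinv, hw2, hw1⟩ := inverts_of_pair hz h1 h2
    simp only [Finset.mem_sdiff, Finset.mem_filter, Finset.mem_univ, true_and]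
    refine ⟨?_, fun hwP => ?_⟩
    · refine Subgroup.mem_normalizer_iff.2 fun v => ?_
      have hwi : w⁻¹ = w := inv_eq_of_mul_eq_one_right (by rw [← pow_two]; exact hw2)
      have key : ∀ u ∈ P, w * u * w⁻¹ ∈ P := by
        intro u hu
        rw [← hall g hgP hg1] at hu ⊢
        refine Subgroup.mem_centralizer_singleton_iff.2 ?_
        have hu' : Commute u g := Subgroup.mem_centralizer_singleton_iff.1 hu
        have h3 := (hu'.inv_right).eq
        calc w * u * w⁻¹ * g = w * (u * (w * g * w⁻¹)) * w⁻¹ := by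
              rw [show w * g * w⁻¹ = w⁻¹ * g * w by rw [hwi]]; group
          _ = w * (g⁻¹ * u) * w⁻¹ := by rw [hinv, h3]
          _ = w * g⁻¹ * w⁻¹ * (w * u * w⁻¹) := by group
          _ = g * (w * u * w⁻¹) := by rw [← conj_inv, hinv, inv_inv]
      refine ⟨key v, fun hv => ?_⟩
      have := key _ hv
      rw [hwi] at this
      rwa [show w * (w * v * w) * w = (w * w) * v * (w * w) by group, ← pow_two, hw2, one_mul,
        mul_one] at this
    · have hd := Subgroup.orderOf_dvd_natCard P hwP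
      rw [hP, orderOf_eq_prime hw2 hw1] at hd
      exact (Nat.not_even_iff_odd.2 hodd) (even_iff_two_dvd.2 hd)
  have hle := Fintype.card_le_of_injective
    (fun w : {w : G // IsConj z w ∧ IsConj z (w⁻¹ * g)} => (⟨(w : G), hmem w⟩ : {v // v ∈
    (Finset.univ.filter fun v => v ∈ Subgroup.normalizer (P : Set G)) \
      (Finset.univ.filter fun v => v ∈ P)})) fun _ _ h => Subtype.ext (congrArg Subtype.val h : _)
  rw [Fintype.card_coe, Finset.card_sdiff_of_subset
    (fun v hv => by
      simp only [Finset.mem_filter, Finset.mem_univ, true_and] at hv ⊢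
      exact Subgroup.le_normalizer hv), ← Fintype.card_subtype, ← Fintype.card_subtype,
    ← Nat.card_eq_fintype_card, ← Nat.card_eq_fintype_card, ← Nat.card_eq_fintype_card] at hle
  change pairCount z g ≤ Nat.card (Subgroup.normalizer (P : Set G)) - Nat.card P at hle
  rw [D.card_N, hP] at hle
  rw [Nat.mul_sub_one]
  exact hle

end QData

end CfsgLib.NineTwoQ
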