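import Cfsg.Agent.NineTwoQ.Values
import Cfsg.Agent.PRational.Basic
import Cfsg.Agent.CharactersDeep.Average
import Cfsg.Agent.Characters.DefectZero
import Cfsg.Agent.Characters.Rational
import Cfsg.Agent.GaloisAverage.Basic
import Cfsg.Agent.OrderThreePrimes.Three

/-!
# Bounds on 2-subgroups from integral values
-/

set_option autoImplicit false
set_option linter.style.haveILetI false
set_option linter.unusedSectionVars false

namespace CfsgLib.NineTwoQ

open CfsgLib.Characters CfsgLib.PrincipalBlock Polynomial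

universe u

variable {G : Type u} [Group G] [Fintype G]

open Classical in
/-- Blichfeldt's bound. -/
theorem card_dvd_of_values {χ : G → ℂ} (hχ : Cfsg.IsCharacter G χ) {n : ℕ} (hn : χ 1 = n)
    (H : Subgroup G) (V : Finset ℤ) (hV : ∀ h ∈ H, h ≠ 1 → ∃ v ∈ V, χ h = v) :
    (Nat.card H : ℤ) ∣ ∏ v ∈ V, ((n : ℤ) - v) := by
  haveI := Fintype.ofFinite H
  obtain ⟨z, hz⟩ := PRational.sum_eval_char (G := H) (isCharacter_restrict H hχ)
    (∏ v ∈ V, (X - C v))
  refine ⟨z, ?_⟩
  simp only [map_prod, map_sub, aeval_X, map_intCast, eq_intCast] at hz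
  rw [Finset.sum_eq_single (1 : H)] at hz
  · rw [OneMemClass.coe_one, hn] at hz
    exact_mod_cast hz
  · intro h _ hne
    obtain ⟨v, hv, he⟩ := hV h h.2 fun e => hne (Subtype.ext e)
    exact Finset.prod_eq_zero hv (by rw [he, sub_self])
  · exact fun h => absurd (Finset.mem_univ _) h

/-- A value fixed by the Galois group is an integer. -/
theorem exists_int_value {χ : G → ℂ} (hχ : Cfsg.IsCharacter G χ) (g : G)
    (hfix : ∀ k : ℕ, k.Coprime (Nat.card G) → χ (g ^ k) = χ g) : ∃ z : ℤ, χ g = z := by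
  obtain ⟨r, hr⟩ := Characters.rat_of_pow_invariant hχ g hfix
  obtain ⟨z, hz⟩ := GaloisAverage.exists_int_of_isIntegral_ratCast
    (hr ▸ Characters.character_isIntegral hχ g : IsIntegral ℤ (r : ℂ))
  exact ⟨z, hr.trans hz⟩

variable [IsSimpleGroup G]

/-- An integral value away from the identity is smaller than the degree. -/
theorem int_value_bound (hG : ¬ IsMulCommutative G) (χ : Cfsg.IrrCharacter G) (hne : χ ≠ trivChar G)
    {n : ℕ} (hn : (χ : G → ℂ) 1 = n) {g : G} (hg : g ≠ 1) {z : ℤ} (hz : (χ : G → ℂ) g = z) :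
    -(n : ℤ) < z ∧ z < n := by
  have h1 := norm_apply_ne_degree hG χ hne hn hg
  obtain ⟨k, ρ, -, hρ⟩ := χ.2
  have h2 := Characters.norm_char_le (ρ := ρ) g
  have hk : (k : ℂ) = n := by
    rw [← hn, ← hρ, Representation.char_one, Module.finrank_fin_fun]
  rw [hρ, Module.finrank_fin_fun, show k = n by exact_mod_cast hk] at h2
  rw [hz, Complex.norm_intCast] at h1 h2
  have h3 : |(z : ℝ)| < (n : ℝ) := lt_of_le_of_ne h2 h1
  rw [abs_lt] at h3
  exact ⟨by exact_mod_cast h3.1, by exact_mod_cast h3.2⟩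

/-- A rational character of degree four bounds the Sylow 2-subgroup. -/
theorem two_exponent_le_four (hG : ¬ IsMulCommutative G) (χ : Cfsg.IrrCharacter G)
    (hne : χ ≠ trivChar G) (hn : (χ : G → ℂ) 1 = (4 : ℕ))
    (hrat : ∀ (g : G) (k : ℕ), k.Coprime (Nat.card G) → (χ : G → ℂ) (g ^ k) = (χ : G → ℂ) g)
    {a : ℕ} (ha : 2 ^ a ∣ Nat.card G) : a ≤ 4 := by
  haveI : Fact (Nat.Prime 2) := ⟨Nat.prime_two⟩
  obtain ⟨H, hH⟩ := Sylow.exists_subgroup_card_pow_prime (G := G) 2 ha
  have hch := isCharacter_of_isIrr χ.2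
  have h := card_dvd_of_values hch hn H (Finset.Icc (-3) 3) fun g _ hg => by
    obtain ⟨z, hz⟩ := exists_int_value hch g (hrat g)
    have := int_value_bound hG χ hne hn hg hz
    exact ⟨z, Finset.mem_Icc.2 ⟨by omega, by omega⟩, hz⟩
  rw [hH, show ∏ v ∈ Finset.Icc (-3 : ℤ) 3, (((4 : ℕ) : ℤ) - v) = ((5040 : ℕ) : ℤ) by decide] at h
  have h' : 2 ^ a ∣ 5040 := by exact_mod_cast h
  by_contra hlt
  have h5 := Nat.dvd_trans (pow_dvd_pow 2 (show 5 ≤ a by omega)) h'
  norm_num at h5

/-- A character of degree nine with rational values at 2-elements bounds the centralizers of the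
elements of order three. -/
theorem card_centralizer_le (hG : ¬ IsMulCommutative G) (χ : Cfsg.IrrCharacter G)
    (hne : χ ≠ trivChar G) (hn : (χ : G → ℂ) 1 = (9 : ℕ)) {m : ℕ} (hm : Nat.card G = 9 * m)
    (h3 : ¬ 3 ∣ m)
    (hrat : ∀ (g : G), (∃ j, orderOf g = 2 ^ j) →
      ∀ k : ℕ, k.Coprime (Nat.card G) → (χ : G → ℂ) (g ^ k) = (χ : G → ℂ) g)
    {k : G} (hk : orderOf k = 3) {U : Subgroup G} (hU : ∃ j, Nat.card U = 2 ^ j)
    (hUk : U ≤ Subgroup.centralizer ({k} : Set G)) : Nat.card U ≤ 8 := by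
  classical
  obtain ⟨j, hj⟩ := hU
  set K := Subgroup.centralizer ({k} : Set G) with hK
  let kK : K := ⟨k, Subgroup.mem_centralizer_singleton_iff.2 rfl⟩
  set N := Subgroup.zpowers kK with hN
  haveI : N.Normal := ⟨fun x hx y => by
    obtain ⟨i, rfl⟩ := hx
    have hc : Commute (y : G) k := Subgroup.mem_centralizer_singleton_iff.1 y.2
    rw [show y * kK ^ i * y⁻¹ = kK ^ i from Subtype.ext (by simp [kK, (hc.zpow_right i).eq])]
    exact zpow_mem (Subgroup.mem_zpowers _) i⟩
  haveI := Fintype.ofFinite K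
  haveI := Fintype.ofFinite N
  have hNcard : Nat.card N = 3 := by rw [hN, Nat.card_zpowers, Subgroup.orderOf_mk, hk]
  obtain ⟨d, ρ, hρ, hχ⟩ := χ.2
  haveI := hρ
  have hdim : Module.finrank ℂ (Fin d → ℂ) = 9 := by
    have h := hn
    rw [← hχ, Representation.char_one] at h
    exact_mod_cast h
  have hvan : ∀ g : G, 3 ∣ orderOf g → (χ : G → ℂ) g = 0 := fun g hg => by
    rw [← hχ]
    exact char_eq_zero_of_defect_zero ρ Nat.prime_three (n := 2) (by rw [hm]; exact ⟨m, rfl⟩)
      (fun h => h3 (by rw [hm, show (3 : ℕ) ^ (2 + 1) = 9 * 3 by norm_num] at h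
                       exact Nat.dvd_of_mul_dvd_mul_left (by norm_num) h))
      (by rw [hdim]; norm_num) g hg
  set ψ : K → ℂ := CharactersDeep.Average.avg N (fun x : K => (χ : G → ℂ) x) with hψ
  have hψch : Cfsg.IsCharacter K ψ :=
    CharactersDeep.Average.isCharacter_avg N (isCharacter_restrict K (isCharacter_of_isIrr χ.2))
  have hval : ∀ u : K, ¬ 3 ∣ orderOf (u : G) → ψ u = (χ : G → ℂ) u / 3 := by
    intro u hu
    simp only [hψ, CharactersDeep.Average.avg]
    rw [Finset.sum_eq_single (1 : N), hNcard]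
    · simp; ring
    · intro x _ hx
      refine hvan _ ?_
      have hc : Commute ((x : K) : G) (u : G) := by
        obtain ⟨i, hi⟩ := x.2
        rw [← hi, SubgroupClass.coe_zpow]
        exact (Commute.zpow_left (Subgroup.mem_centralizer_singleton_iff.1 u.2).symm i)
      have hx3 : orderOf ((x : K) : G) = 3 := by
        rw [Subgroup.orderOf_coe, Subgroup.orderOf_coe]
        exact ((Nat.dvd_prime Nat.prime_three).1 (hNcard ▸ orderOf_dvd_natCard x)).resolve_left
          fun h => hx (orderOf_eq_one_iff.1 h)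
      rw [Subgroup.coe_mul, hc.orderOf_mul_eq_mul_orderOf_of_coprime (by
        rw [hx3]; exact Nat.prime_three.coprime_iff_not_dvd.2 hu), hx3]
      exact dvd_mul_right 3 _
    · exact fun h => absurd (Finset.mem_univ _) h
  have hψ1 : ψ 1 = (3 : ℕ) := by
    rw [hval 1 (by simp), OneMemClass.coe_one, hn]
    norm_num
  have h := card_dvd_of_values hψch hψ1 (U.subgroupOf K) (Finset.Icc (-2) 2) fun u hu hu1 => by
    have hord : ∃ i, orderOf (u : G) = 2 ^ i := by
      obtain ⟨i, -, hi⟩ := (Nat.dvd_prime_pow Nat.prime_two).1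
        (hj ▸ Subgroup.orderOf_dvd_natCard U (Subgroup.mem_subgroupOf.1 hu))
      exact ⟨i, hi⟩
    have hu3 : ¬ 3 ∣ orderOf (u : G) := by
      obtain ⟨i, hi⟩ := hord
      rw [hi]
      exact fun h => absurd (Nat.prime_three.dvd_of_dvd_pow h) (by norm_num)
    have huG : (u : G) ≠ 1 := fun e => hu1 (Subtype.ext e)
    obtain ⟨z, hz⟩ := exists_int_value (isCharacter_of_isIrr χ.2) (u : G) (hrat _ hord)
    have hb := int_value_bound hG χ hne hn huG hz
    obtain ⟨y, hy⟩ := GaloisAverage.exists_int_of_isIntegral_ratCast (q := (z : ℚ) / 3) (by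
      have := Characters.character_isIntegral hψch u
      rw [hval u hu3, hz] at this
      push_cast
      exact this)
    push_cast at hy
    refine ⟨y, Finset.mem_Icc.2 ?_, by rw [hval u hu3, hz, hy]⟩
    have hzy : (z : ℂ) = 3 * (y : ℂ) := by rw [← hy]; ring
    have hzy' : z = 3 * y := by exact_mod_cast hzy
    omega
  rw [Nat.card_congr (Subgroup.subgroupOfEquivOfLe hUk).toEquiv, hj,
    show ∏ v ∈ Finset.Icc (-2 : ℤ) 2, (((3 : ℕ) : ℤ) - v) = ((120 : ℕ) : ℤ) by decide] at h
  have h' : 2 ^ j ∣ 120 := by exact_mod_cast h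
  rw [hj]
  by_contra hlt
  have h4 : 4 ≤ j := by
    by_contra h4
    interval_cases j <;> norm_num at hlt
  have h5 := Nat.dvd_trans (pow_dvd_pow 2 h4) h'
  norm_num at h5

end CfsgLib.NineTwoQ
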