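import Cfsg.Agent.NineTwoQ.SylowQ
import Cfsg.Agent.NineTwoQ.QSide
import Cfsg.Agent.NineTwoQ.TwoBound

/-!
# The primes five and seven
-/

set_option autoImplicit false
set_option linter.style.haveILetI false
set_option linter.unusedSectionVars false

namespace CfsgLib.NineTwoQ

open CfsgLib.Characters CfsgLib.PrincipalBlock Ctx
open scoped ComplexConjugate

universe u

variable {G : Type u} [Group G] [Fintype G] [IsSimpleGroup G] {c : Ctx G}

/-- The numbers at the primes five and seven. -/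
theorem small_arith {k σ β bA : ℤ} (hσ : σ = 1 ∨ σ = -1) (hk : k = 2 ∨ k = 3)
    (h : 1 + bA * bA + (k * (β * β) + 2 * σ * β) ≤ 2) (hA : bA ≠ 0) :
    (β = 0 ∨ k = 2 ∧ β = -σ) ∧ (bA = 1 ∨ bA = -1) ∧ k * (β * β) + 2 * σ * β = 0 := by
  have h2 : 1 ≤ bA * bA := by
    rcases lt_trichotomy bA 0 with e | e | e
    · nlinarith
    · exact absurd e hA
    · nlinarith
  have h3 : k * (β * β) + 2 * σ * β ≤ 0 := by linarith
  have hβ : -1 ≤ β ∧ β ≤ 1 := by
    rcases hσ with rfl | rfl <;> rcases hk with rfl | rfl <;> constructor <;> nlinarith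
  have hβ' : β = 0 ∨ β = 1 ∨ β = -1 := by omega
  have hzero : k * (β * β) + 2 * σ * β = 0 ∧ (β = 0 ∨ k = 2 ∧ β = -σ) := by
    rcases hβ' with rfl | rfl | rfl <;> rcases hσ with rfl | rfl <;> rcases hk with rfl | rfl <;>
      constructor <;> omega
  have hb : bA * bA ≤ 1 := by linarith [hzero.1]
  have : -1 ≤ bA ∧ bA ≤ 1 := ⟨by nlinarith, by nlinarith⟩
  exact ⟨hzero.2, by omega, hzero.1⟩

open Classical in
/-- The weighted class product when the automizer at `q` has order two. -/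
theorem formula_two (hG : ¬ IsMulCommutative G) {q : ℕ} (w : Pair c q) {P : Subgroup G}
    (hP : Nat.card P = q) (D : QData P q) (he : D.e = 2)
    (hq : (q = 5 ∧ w.i = 2) ∨ (q = 7 ∧ w.i = 3))
    {z : G} (hz : orderOf z = 2) (hcop : Odd (Subgroup.centralizer ({z} : Set G)).index) :
    (Nat.card (Subgroup.centralizer ({z} : Set G)) : ℤ) ^ 2 *
        ((∑ g ∈ punct P, pairCount z g : ℕ) : ℤ) * (1 + D.b w.A * 2 ^ w.i) =
      (Nat.card G : ℤ) * ((q : ℤ) - 1) * (D.b w.A * 2 ^ w.i) ∧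
    (D.b w.A = 1 ∨ D.b w.A = -1) ∧ ((q : ℤ) ∣ (2 : ℤ) ^ w.i - D.b w.A) := by
  have hk : (D.k = 2 ∧ q = 5) ∨ (D.k = 3 ∧ q = 7) := by
    have := D.ke
    rw [he] at this
    omega
  have hk' : (D.k : ℤ) = 2 ∨ (D.k : ℤ) = 3 := by omega
  have hdA : D.dg w.A = 2 ^ w.i := by
    have h := (D.deg w.A).symm.trans w.A_one
    exact_mod_cast h
  have hAX : w.A ∉ D.X := by
    intro hA
    obtain ⟨h1, h2, h3⟩ := D.on_X _ hA
    have hb := D.norm_bound {trivChar G} (by simpa using D.triv_not)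
    rw [Finset.sum_singleton, D.b_triv, he] at hb
    rw [← h2, hdA, he] at h3
    push_cast at h3 hb
    have hβ : -1 ≤ D.β ∧ D.β ≤ 1 := by
      rcases D.hσ with e | e <;> rw [e] at hb <;> rcases hk' with e' | e' <;> rw [e'] at hb <;>
        constructor <;> nlinarith
    have hβ' : D.β = 0 ∨ D.β = 1 ∨ D.β = -1 := by omega
    rcases hq with ⟨rfl, e⟩ | ⟨rfl, e⟩ <;> rw [e] at h3 <;> push_cast at h3 <;>
      rcases D.hσ with s | s <;> rw [s] at h3 hb <;> rcases hβ' with t | t | t <;>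
      rw [t] at h3 hb <;> rcases hk' with u | u <;> rw [u] at hb <;> omega
  have hdiv : (q : ℤ) ∣ (2 : ℤ) ^ w.i - D.b w.A := by
    have := D.off_X _ hAX
    rw [hdA] at this
    exact_mod_cast this
  have hA0 : D.b w.A ≠ 0 := fun h => by
    rw [h, sub_zero] at hdiv
    rcases hq with ⟨rfl, e⟩ | ⟨rfl, e⟩ <;> rw [e] at hdiv <;> norm_num at hdiv
  have hb := D.norm_bound {trivChar G, w.A} (fun χ hχ => by
    simp only [Finset.mem_insert, Finset.mem_singleton] at hχ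
    rcases hχ with rfl | rfl
    · exact D.triv_not
    · exact hAX)
  rw [Finset.sum_pair (Ne.symm w.A_ne), D.b_triv, he] at hb
  push_cast at hb
  obtain ⟨hβ, hη, hzero⟩ := small_arith (k := (D.k : ℤ)) (β := D.β) (bA := D.b w.A) D.hσ hk'
    (by linarith) hA0
  have hrest : ∀ χ, χ ∉ D.X → χ ≠ trivChar G → χ ≠ w.A → D.b χ = 0 := by
    intro χ h1 h2 h3
    have h := D.norm_bound {χ, trivChar G, w.A} (fun x hx => by
      simp only [Finset.mem_insert, Finset.mem_singleton] at hx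
      rcases hx with rfl | rfl | rfl
      · exact h1
      · exact D.triv_not
      · exact hAX)
    rw [Finset.sum_insert (by simp [h2, h3]), Finset.sum_pair (Ne.symm w.A_ne), D.b_triv, he,
      hzero] at h
    push_cast at h
    have : D.b w.A * D.b w.A = 1 := by rcases hη with e | e <;> rw [e] <;> norm_num
    exact mul_self_eq_zero.1 (le_antisymm (by linarith) (mul_self_nonneg _))
  have hsum : ∀ f : Cfsg.IrrCharacter G → ℂ,
      ∑ χ ∈ Finset.univ \ D.X, (D.b χ : ℂ) * f χ = f (trivChar G) + (D.b w.A : ℂ) * f w.A := by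
    intro f
    rw [← Finset.sum_subset (s₁ := {trivChar G, w.A}) (fun χ hχ => ?_) (fun χ hχ hne => ?_),
      Finset.sum_pair (Ne.symm w.A_ne), D.b_triv, Int.cast_one, one_mul]
    · simp only [Finset.mem_insert, Finset.mem_singleton] at hχ
      rcases hχ with rfl | rfl <;> simp [D.triv_not, hAX]
    · simp only [Finset.mem_insert, Finset.mem_singleton, not_or] at hne
      rw [hrest χ (by simpa using hχ) hne.1 hne.2, Int.cast_zero, zero_mul]
  set s : ℂ := (D.k : ℂ) * (D.β : ℂ) + (D.σ : ℂ) with hs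
  have hdeg : 1 + (D.b w.A : ℂ) * (2 : ℂ) ^ w.i + s * (D.d : ℂ) = 0 := by
    have h : ((∑ χ, D.b χ * (D.dg χ : ℤ) + D.σ * (D.d : ℤ) : ℤ) : ℂ) = 0 := by
      rw [D.deg_rel, Int.cast_zero]
    push_cast at h
    rw [← Finset.sum_sdiff (Finset.subset_univ D.X), hsum,
      Finset.sum_congr rfl (s₁ := D.X) (g := fun _ => (D.β : ℂ) * (D.d : ℂ)) (fun χ hχ => by
        rw [(D.on_X χ hχ).1, (D.on_X χ hχ).2.1]), Finset.sum_const, D.card_X, nsmul_eq_mul] at h
    have e1 : D.dg (trivChar G) = 1 := by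
      have := (D.deg (trivChar G)).symm.trans (trivChar_apply (G := G) 1)
      exact_mod_cast this
    rw [e1, hdA] at h
    push_cast at h
    rw [hs]
    linear_combination h
  have hz1 : z ≠ 1 := fun e => by rw [e, orderOf_one] at hz; omega
  have hAz : (w.A : G → ℂ) z = 0 :=
    apply_eq_zero_of_coprime hG w.A w.A_ne w.A_one hz1
      (Nat.Coprime.pow_left _ (Nat.coprime_two_left.2 hcop))
  have hzP : ∀ g : G, g * z * g⁻¹ ∉ P := fun g hg => by
    have hd := Subgroup.orderOf_dvd_natCard P hg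
    rw [hP, show g * z * g⁻¹ = MulAut.conj g z from rfl, MulEquiv.orderOf_eq, hz] at hd
    rcases hq with ⟨rfl, -⟩ | ⟨rfl, -⟩ <;> norm_num at hd
  set v : ℂ := ∑ χ ∈ D.X, (χ : G → ℂ) z with hv
  have hψ : ∀ ψ ∈ D.X, (D.σ : ℂ) * (ψ : G → ℂ) z = -1 - (D.β : ℂ) * v := by
    intro ψ hψ
    have h := D.val_rel z hzP ψ hψ
    rw [← Finset.sum_sdiff (Finset.subset_univ D.X), hsum, hAz, mul_zero, add_zero,
      Finset.sum_congr rfl (s₁ := D.X) (g := fun χ : Cfsg.IrrCharacter G =>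
        (D.β : ℂ) * (χ : G → ℂ) z) (fun χ hχ => by rw [(D.on_X χ hχ).1]), ← Finset.mul_sum,
      trivChar_apply] at h
    linear_combination h
  have hσ2 : (D.σ : ℂ) * D.σ = 1 := by rcases D.hσ with e | e <;> rw [e] <;> norm_num
  have hval : ∀ ψ ∈ D.X, s * (ψ : G → ℂ) z = -1 := by
    intro ψ hψ'
    have hveq : v = (D.k : ℂ) * (ψ : G → ℂ) z := by
      rw [hv, Finset.sum_congr rfl (g := fun _ => (ψ : G → ℂ) z) fun χ hχ => by
        have h1 := hψ χ hχ
        have h2 := hψ ψ hψ'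
        linear_combination (D.σ : ℂ) * (h1 - h2) +
          ((ψ : G → ℂ) z - (χ : G → ℂ) z) * hσ2]
      rw [Finset.sum_const, D.card_X, nsmul_eq_mul]
    have h1 := hψ ψ hψ'
    rw [hveq] at h1
    rw [hs]
    linear_combination h1
  have hmain := D.sum_pairCount z
  rw [← Finset.sum_sdiff (Finset.subset_univ D.X)] at hmain
  have hout : ∑ χ ∈ Finset.univ \ D.X, (D.colVal χ : ℂ) *
        ((χ : G → ℂ) z * (χ : G → ℂ) z / (χ : G → ℂ) 1) = (q : ℂ) - 1 := by
    rw [Finset.sum_congr rfl (g := fun χ : Cfsg.IrrCharacter G => (D.b χ : ℂ) *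
      (((q : ℂ) - 1) * ((χ : G → ℂ) z * (χ : G → ℂ) z / (χ : G → ℂ) 1))) fun χ hχ => by
        rw [D.colVal_of_not_mem (Finset.mem_sdiff.1 hχ).2]
        push_cast
        ring, hsum, hAz, trivChar_apply]
    simp
  have hin : ∑ χ ∈ D.X, (D.colVal χ : ℂ) *
        ((χ : G → ℂ) z * (χ : G → ℂ) z / (χ : G → ℂ) 1) * (s * (D.d : ℂ)) = (q : ℂ) - 1 := by
    have hne : (D.d : ℂ) ≠ 0 := by
      obtain ⟨χ, hχ⟩ := Finset.card_pos.1 (D.card_X ▸ D.k_pos : 0 < D.X.card)
      rw [← (D.on_X χ hχ).2.1, ← D.deg χ]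
      exact Characters.irr_one_ne_zero χ.2
    have hk2 : (D.k : ℂ) * 2 = (q : ℂ) - 1 := by
      rcases hk with ⟨e1, e2⟩ | ⟨e1, e2⟩ <;> rw [e1, e2] <;> norm_num
    rw [Finset.sum_congr rfl (g := fun _ => ((q : ℂ) - 1) / (D.k : ℂ)) fun χ hχ => by
      rw [D.colVal_of_mem hχ, D.deg χ, (D.on_X χ hχ).2.1, he]
      have h1 := hval χ hχ
      have hk0 : (D.k : ℂ) ≠ 0 := Nat.cast_ne_zero.2 (by have := D.k_pos; omega)
      push_cast
      field_simp
      rw [hs] at h1 ⊢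
      linear_combination (((q : ℂ) - 1) * ((D.k : ℂ) * D.β + D.σ) * (χ : G → ℂ) z - ((q : ℂ) - 1)) * h1
        + (D.σ : ℂ) * ((D.k : ℂ) * D.β + D.σ) * ((χ : G → ℂ) z) ^ 2 * hk2]
    rw [Finset.sum_const, D.card_X, nsmul_eq_mul]
    have hk0 : (D.k : ℂ) ≠ 0 := Nat.cast_ne_zero.2 (by have := D.k_pos; omega)
    field_simp
  refine ⟨?_, hη, hdiv⟩
  rw [← Finset.sum_mul] at hin
  have key : ((Nat.card (Subgroup.centralizer ({z} : Set G)) : ℂ) ^ 2 *
      ((∑ g ∈ punct P, pairCount z g : ℕ) : ℂ)) * (1 + (D.b w.A : ℂ) * 2 ^ w.i) =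
      (Nat.card G : ℂ) * ((q : ℂ) - 1) * ((D.b w.A : ℂ) * 2 ^ w.i) := by
    rw [hmain, hout]
    have hsd : s * (D.d : ℂ) = -(1 + (D.b w.A : ℂ) * 2 ^ w.i) := by linear_combination hdeg
    rw [hsd] at hin
    linear_combination (-(Nat.card G : ℂ)) * hin
  exact_mod_cast key

end CfsgLib.NineTwoQ
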