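import Cfsg.Agent.NineTwoQ.TwoPower
import Cfsg.Agent.NineTwoQ.SmallDegree
import Cfsg.Agent.NineTwoQ.SmallQ
import Cfsg.Agent.Classification.OrderMid.Main

/-!
# The two groups of order `9 · 2 ^ a · q ^ b` with three classes of 3-elements
-/

set_option autoImplicit false
set_option linter.style.haveILetI false
set_option linter.unusedSectionVars false

namespace CfsgLib.NineTwoQ

open CfsgLib.Characters CfsgLib.PrincipalBlock Ctx
open scoped commutatorElement

universe u

variable {G : Type u} [Group G] [Fintype G] [IsSimpleGroup G] {c : Ctx G}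

omit [IsSimpleGroup G] in
/-- Three classes of 3-elements inside the Sylow subgroup. -/
theorem exists_third_class
    (h3 : 3 ≤ Nat.card {C : ConjClasses G // ∃ g ∈ C.carrier, g ≠ 1 ∧ orderOf g ∣ 9})
    (a b : G) : ∃ k ∈ (c.R : Subgroup G), k ≠ 1 ∧ ¬ IsConj a k ∧ ¬ IsConj b k := by
  classical
  haveI : Fact (Nat.Prime 3) := ⟨Nat.prime_three⟩
  rw [Nat.card_eq_fintype_card, Fintype.card_subtype] at h3
  have hlt : ({ConjClasses.mk a, ConjClasses.mk b} : Finset (ConjClasses G)).card <
      (Finset.univ.filter fun C : ConjClasses G =>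
        ∃ g ∈ C.carrier, g ≠ 1 ∧ orderOf g ∣ 9).card :=
    lt_of_le_of_lt Finset.card_le_two (by omega)
  obtain ⟨C, hC, hnot⟩ := Finset.exists_mem_notMem_of_card_lt_card hlt
  simp only [Finset.mem_filter, Finset.mem_univ, true_and] at hC
  simp only [Finset.mem_insert, Finset.mem_singleton, not_or] at hnot
  obtain ⟨g, hgC, hg1, hg9⟩ := hC
  rw [ConjClasses.mem_carrier_iff_mk_eq] at hgC
  obtain ⟨i, -, hi⟩ := (Nat.dvd_prime_pow Nat.prime_three).1 (show orderOf g ∣ 3 ^ 2 from hg9)
  obtain ⟨S, hS⟩ := (IsPGroup.of_card (p := 3) (n := i) (by rw [Nat.card_zpowers, hi]) :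
    IsPGroup 3 (Subgroup.zpowers g)).exists_le_sylow
  obtain ⟨x, hx⟩ := MulAction.exists_smul_eq G S c.R
  have hmem : x * g * x⁻¹ ∈ (c.R : Subgroup G) := by
    rw [← hx, Sylow.coe_subgroup_smul]
    exact Subgroup.smul_mem_pointwise_smul g (MulAut.conj x) _ (hS (Subgroup.mem_zpowers g))
  have hconj : IsConj g (x * g * x⁻¹) := isConj_iff.2 ⟨x, rfl⟩
  refine ⟨x * g * x⁻¹, hmem, fun h => hg1 (conj_eq_one_iff.1 h), fun h => hnot.1 ?_,
    fun h => hnot.2 ?_⟩ <;>
    rw [← hgC] <;> exact ConjClasses.mk_eq_mk_iff_isConj.2 (hconj.trans h.symm)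

/-- A nonabelian simple group is perfect. -/
theorem commutator_eq_top (hG : ¬ IsMulCommutative G) : commutator G = ⊤ := by
  refine ((inferInstance : IsSimpleGroup G).eq_bot_or_eq_top_of_normal (commutator G)
    inferInstance).resolve_left fun h => hG ⟨⟨fun x y => ?_⟩⟩
  have : (⁅x, y⁆ : G) ∈ commutator G := Subgroup.commutator_mem_commutator
    (Subgroup.mem_top x) (Subgroup.mem_top y)
  rw [h, Subgroup.mem_bot, commutatorElement_eq_one_iff_mul_comm] at this
  exact this

omit [IsSimpleGroup G] in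
theorem pairs_total {P : Subgroup G} {q : ℕ} (D : QData P q) (hP : Nat.card P = q)
    (hall : ∀ g ∈ P, g ≠ 1 → Subgroup.centralizer ({g} : Set G) = P) (hodd : Odd q)
    {z : G} (hz : orderOf z = 2) :
    ∑ g ∈ punct P, pairCount z g ≤ (q - 1) * (q * (D.e - 1)) := by
  refine (Finset.sum_le_card_nsmul _ _ _ fun g hg => D.pairCount_le hP hall hodd hz hg).trans ?_
  rw [card_punct hP, smul_eq_mul]

/-- Five is impossible. -/
theorem false_of_five (hG : ¬ IsMulCommutative G) (w : Pair c 5) {a : ℕ} (ha : 0 < a)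
    (hcard : Nat.card G = 9 * 2 ^ a * 5) : False := by
  have hi : w.i = 2 := by
    rcases w.near with e | e
    · exfalso
      rcases Nat.lt_or_ge w.i 3 with h | h
      · interval_cases hw : w.i <;> norm_num at e
      · have := Nat.pow_le_pow_right (show 2 > 0 by norm_num) h
        omega
    · rcases Nat.lt_or_ge w.i 3 with h | h
      · have := w.two_le
        omega
      · have := Nat.pow_le_pow_right (show 2 > 0 by norm_num) h
        omega
  have ha4 : a ≤ 4 := two_exponent_le_four hG w.A w.A_ne (by rw [w.A_one, hi]; norm_num) w.A_rat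
    (hcard ▸ ⟨45, by ring⟩)
  have ha3 : a = 3 := by
    have hmem := CfsgLib.Classification.OrderMid.orders_lt_six_thousand hG (by
      rw [hcard]; interval_cases a <;> norm_num)
    simp only [List.mem_cons, List.not_mem_nil, or_false] at hmem
    rw [hcard] at hmem
    interval_cases a <;> omega
  subst ha3
  obtain ⟨P, hP, hC, hall⟩ := exists_self_centralizing (by norm_num) hcard
  obtain ⟨D⟩ := exists_qdata hG (by norm_num) hP hC (by rw [hcard]; norm_num)
  have he : D.e = 2 := by
    have hke := D.ke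
    have h2 := D.e_two
    have hn := D.n_mul
    have hm := D.n_mod
    rw [hcard] at hn
    have : D.e ≤ 4 := Nat.le_of_dvd (by norm_num) ⟨D.k, by rw [mul_comm]; omega⟩
    interval_cases hE : D.e <;> omega
  obtain ⟨z, hz, hzC, hzI⟩ := exists_two_central (G := G) ha (m := 45) (by rw [hcard]; norm_num)
    (by norm_num)
  obtain ⟨heq, hη, hdiv⟩ := formula_two hG w hP D he (Or.inl ⟨rfl, hi⟩) hz
    (Odd.of_dvd_nat (by decide) hzI)
  have hM := pairs_total D hP hall (by decide) hz
  rw [he] at hM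
  obtain ⟨t, ht⟩ := hzC
  rw [ht, hcard, hi] at heq
  rw [hi] at hdiv
  generalize (∑ g ∈ punct P, pairCount z g) = M at hM heq
  rcases hη with e | e <;> rw [e] at heq hdiv <;> norm_num at hdiv
  push_cast at heq
  have hM' : (t : ℤ) ^ 2 * (M : ℤ) = 30 := by linarith
  have hM'' : t ^ 2 * M = 30 := by exact_mod_cast hM'
  have ht5 : t ≤ 5 := by
    by_contra h
    have h36 := Nat.pow_le_pow_left (show 6 ≤ t by omega) 2
    rcases Nat.eq_zero_or_pos M with h0 | h0
    · rw [h0] at hM''
      omega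
    · have := Nat.mul_le_mul h36 h0
      omega
  interval_cases t <;> omega

/-- At seven the order is 504. -/
theorem card_of_seven (hG : ¬ IsMulCommutative G) (w : Pair c 7) {a : ℕ} (ha : 0 < a)
    (hcard : Nat.card G = 9 * 2 ^ a * 7) : Nat.card G = 504 := by
  have hi : w.i = 3 := by
    rcases Nat.lt_or_ge w.i 4 with h | h
    · have h2 := w.two_le
      rcases w.near with e | e <;> interval_cases hw : w.i <;> omega
    · have := Nat.pow_le_pow_right (show 2 > 0 by norm_num) h
      rcases w.near with e | e <;> omega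
  obtain ⟨P, hP, hC, hall⟩ := exists_self_centralizing (by norm_num) hcard
  obtain ⟨D⟩ := exists_qdata hG (by norm_num) hP hC (by
    rw [hcard]
    intro h
    have h7 : 7 ∣ 9 * 2 ^ a :=
      (Nat.mul_dvd_mul_iff_right (by norm_num : 0 < 7)).1 (by rwa [pow_two] at h)
    exact absurd (Nat.Prime.dvd_of_dvd_pow (by norm_num)
      ((Nat.Coprime.dvd_of_dvd_mul_left (by norm_num) h7) : 7 ∣ 2 ^ a)) (by norm_num))
  have hne : D.n * D.e = 9 * 2 ^ a := by
    have hn := D.n_mul
    rw [hcard] at hn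
    linarith
  have hmod : D.e % 7 = 9 * 2 ^ (a % 3) % 7 := by
    have h : (D.n * D.e) % 7 = (9 * 2 ^ a) % 7 := by rw [hne]
    rw [Nat.mul_mod, D.n_mod, one_mul, Nat.mod_mod] at h
    rw [h, ← Nat.div_add_mod a 3, pow_add, pow_mul, Nat.mul_mod, Nat.mul_mod ((2 ^ 3) ^ _),
      Nat.pow_mod]
    norm_num [Nat.mul_mod, Nat.add_mod, Nat.mod_mod]
  have he' : D.e ∣ 6 := ⟨D.k, by rw [mul_comm]; exact D.ke.symm⟩
  have he : D.e = 2 ∧ a % 3 = 0 := by
    have := Nat.le_of_dvd (by norm_num) he'
    have := D.e_two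
    have h3 := Nat.mod_lt a (show 3 > 0 by norm_num)
    interval_cases hE : D.e <;> interval_cases hA : a % 3 <;> omega
  obtain ⟨z, hz, hzC, hzI⟩ := exists_two_central (G := G) ha (m := 63) (by rw [hcard]; ring)
    (by norm_num)
  obtain ⟨heq, hη, hdiv⟩ := formula_two hG w hP D he.1 (Or.inr ⟨rfl, hi⟩) hz
    (Odd.of_dvd_nat (by decide) hzI)
  obtain ⟨t, ht⟩ := hzC
  rw [ht, hcard, hi] at heq
  rw [hi] at hdiv
  generalize (∑ g ∈ punct P, pairCount z g) = M at heq
  rcases hη with e | e <;> rw [e] at heq hdiv <;> norm_num at hdiv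
  push_cast at heq
  have hM : (2 : ℤ) ^ a * ((2 : ℤ) ^ a * ((t : ℤ) ^ 2 * M)) = (2 : ℤ) ^ a * 336 := by linarith
  have hM' := mul_left_cancel₀ (pow_ne_zero a (two_ne_zero : (2 : ℤ) ≠ 0)) hM
  have hM'' : 2 ^ a * (t ^ 2 * M) = 336 := by exact_mod_cast hM'
  have ha4 : a ≤ 4 := by
    by_contra h
    have h5 := (pow_dvd_pow 2 (show 5 ≤ a by omega)).trans (hM'' ▸ dvd_mul_right (2 ^ a) _)
    norm_num at h5
  obtain ⟨-, h0⟩ := he
  obtain rfl : a = 3 := by omega
  rw [hcard]
  norm_num

/-- The prime 31 is impossible. -/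
theorem false_of_thirty_one {P : Subgroup G} (D : QData P 31) {a : ℕ}
    (hcard : Nat.card G = 9 * 2 ^ a * 31) : False := by
  have hne : D.n * D.e = 9 * 2 ^ a := by
    have hn := D.n_mul
    rw [hcard] at hn
    linarith
  have hmod : D.e % 31 = 9 * 2 ^ (a % 5) % 31 := by
    have h : (D.n * D.e) % 31 = (9 * 2 ^ a) % 31 := by rw [hne]
    rw [Nat.mul_mod, D.n_mod, one_mul, Nat.mod_mod] at h
    rw [h, ← Nat.div_add_mod a 5, pow_add, pow_mul, Nat.mul_mod, Nat.mul_mod ((2 ^ 5) ^ _),
      Nat.pow_mod]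
    norm_num [Nat.mul_mod, Nat.add_mod, Nat.mod_mod]
  have he : D.e ∣ 30 := ⟨D.k, by rw [mul_comm]; exact D.ke.symm⟩
  have h5 : ¬ 5 ∣ D.e := fun h => by
    have h' : 5 ∣ 9 * 2 ^ a := hne ▸ h.mul_left _
    exact absurd (Nat.Prime.dvd_of_dvd_pow (by norm_num)
      ((Nat.Coprime.dvd_of_dvd_mul_left (by norm_num) h') : 5 ∣ 2 ^ a)) (by norm_num)
  have hle := Nat.le_of_dvd (by norm_num) he
  rw [Nat.mod_eq_of_lt (show D.e < 31 by omega)] at hmod
  have h3 := Nat.mod_lt a (show 5 > 0 by norm_num)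
  interval_cases hA : a % 5 <;> norm_num at hmod <;> rw [hmod] at h5 he <;>
    first | exact h5 (by decide) | exact absurd he (by decide)

/-- The order of a group with the pair of characters. -/
theorem card_of_pair (hG : ¬ IsMulCommutative G) {q a b : ℕ} (w : Pair c q) (hq : q.Prime)
    (hq2 : q ≠ 2) (hq3 : q ≠ 3) (hcard : Nat.card G = 9 * 2 ^ a * q ^ b) :
    Nat.card G = 504 ∨ Nat.card G = 2448 := by
  have hq5 : 5 ≤ q := by
    have := hq.two_le
    by_contra hlt
    interval_cases q <;> first | contradiction | exact absurd hq (by decide)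
  obtain rfl := w.exponent_q hG hq (by omega) hcard
  rw [pow_one] at hcard
  have ha : 0 < a := by
    refine Nat.pos_of_ne_zero fun e => ?_
    subst e
    haveI := Characters.isSolvable_of_card_eq_primePow_mul (G := G) 3 q 2 1 Nat.prime_three hq
      (by rw [hcard]; norm_num)
    exact (Group.IsSolvable.commutator_lt_top_of_nontrivial G).ne (commutator_eq_top hG)
  obtain ⟨P, hP, hC, hall⟩ := exists_self_centralizing hq hcard
  have hq9 : ¬ q ∣ 9 * 2 ^ a := fun h => by
    rcases hq.dvd_mul.1 h with h' | h'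
    · have := Nat.le_of_dvd (by norm_num) h'
      interval_cases q <;> first | omega | norm_num at hq
    · exact hq2 ((Nat.prime_dvd_prime_iff_eq hq Nat.prime_two).1 (hq.dvd_of_dvd_pow h'))
  obtain ⟨D⟩ := exists_qdata hG hq hP hC fun h => hq9
    ((Nat.mul_dvd_mul_iff_right hq.pos).1 (by rwa [pow_two, hcard] at h))
  rcases Nat.lt_or_ge w.i 7 with hi | hi
  · have h2 := w.two_le
    have hcases : q = 5 ∨ q = 7 ∨ q = 17 ∨ q = 31 := by
      have hv : q ∈ [3, 5, 7, 9, 15, 17, 31, 33, 63, 65] := by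
        simp only [List.mem_cons, List.not_mem_nil, or_false]
        rcases w.near with e | e <;> interval_cases hw : w.i <;> norm_num at e <;> omega
      simp only [List.mem_cons, List.not_mem_nil, or_false] at hv
      rcases hv with rfl | rfl | rfl | rfl | rfl | rfl | rfl | rfl | rfl | rfl <;>
        first | omega | norm_num at hq
    rcases hcases with rfl | rfl | rfl | rfl
    · exact (false_of_five hG w ha hcard).elim
    · exact Or.inl (card_of_seven hG w ha hcard)
    · right
      rw [hcard, seventeen_exponent hG w ha hcard hP D]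
      norm_num
    · exact (false_of_thirty_one D hcard).elim
  · exfalso
    have h128 := Nat.pow_le_pow_right (show 2 > 0 by norm_num) hi
    exact D.false_of_big hG hP hq (by rcases w.near with e | e <;> omega) hcard

/-- A simple group of order `9 · 2 ^ a · q ^ b` with three classes of 3-elements. -/
theorem card_of_three_classes (hG : ¬ IsMulCommutative G) {q a b : ℕ} (hq : q.Prime) (hq2 : q ≠ 2)
    (hq3 : q ≠ 3) (hcard : Nat.card G = 9 * 2 ^ a * q ^ b)
    (h3 : 3 ≤ Nat.card {C : ConjClasses G // ∃ g ∈ C.carrier, g ≠ 1 ∧ orderOf g ∣ 9}) :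
    Nat.card G = 504 ∨ Nat.card G = 2448 := by
  haveI : Fact (Nat.Prime 3) := ⟨Nat.prime_three⟩
  obtain ⟨R⟩ : Nonempty (Sylow 3 G) := inferInstance
  let c : Ctx G := ⟨R, 2 ^ a * q ^ b, by rw [hcard]; ring, fun h => by
    rcases Nat.prime_three.dvd_mul.1 h with h' | h'
    · exact absurd (Nat.prime_three.dvd_of_dvd_pow h') (by norm_num)
    · exact hq3 ((Nat.prime_dvd_prime_iff_eq Nat.prime_three hq).1
        (Nat.prime_three.dvd_of_dvd_pow h')).symm⟩
  obtain ⟨g⟩ : Nonempty (Good c) := by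
    rcases inverted_or_axes (c := c) (commutator_eq_top hG)
      (fun x _ y _ => exists_third_class h3 x y) with I | ⟨⟨A⟩⟩
    · exact I.exists_good
    · exact A.exists_good hG
  obtain ⟨w⟩ := g.exists_pair hG hq hq2 hq3 hcard
  exact card_of_pair hG w hq hq2 hq3 hcard

end CfsgLib.NineTwoQ
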