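import Cfsg.Agent.NineTwoQ.SmallQ
import Cfsg.Agent.NineTwoQ.SmallDegree

/-!
# The prime seventeen: an exceptional pair of degree nine
-/

set_option autoImplicit false
set_option linter.style.haveILetI false
set_option linter.unusedSectionVars false

namespace CfsgLib.NineTwoQ

open CfsgLib.Characters CfsgLib.PrincipalBlock Ctx
open scoped ComplexConjugate

universe u

variable {G : Type u} [Group G] [Fintype G]

theorem beta_bound {k : ℕ} {σ β e : ℤ} (hσ : σ = 1 ∨ σ = -1) (hk : 1 ≤ k)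
    (h : 1 + ((k : ℤ) * (β * β) + 2 * σ * β) ≤ e) (he : e ≤ 16) : -5 ≤ β ∧ β ≤ 5 := by
  have hk1 : β * β ≤ (k : ℤ) * (β * β) :=
    le_mul_of_one_le_left (mul_self_nonneg _) (by exact_mod_cast hk)
  rcases hσ with rfl | rfl <;> constructor <;> nlinarith

theorem cases_seventeen {σ β : ℤ} {k e d : ℕ} (hσ : σ = 1 ∨ σ = -1)
    (hke : (e = 2 ∧ k = 8) ∨ (e = 4 ∧ k = 4) ∨ (e = 8 ∧ k = 2) ∨ (e = 16 ∧ k = 1))
    (h : 1 + ((k : ℤ) * (β * β) + 2 * σ * β) ≤ e) (hd : d = 3 ∨ d = 9)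
    (hdvd : (17 : ℤ) ∣ (d : ℤ) - (β - σ * (e : ℤ))) :
    (e = 8 ∧ k = 2 ∧ d = 9) ∨ (e = 16 ∧ k = 1 ∧ d = 3 ∧ β + σ = 3) := by
  obtain ⟨h1, h2⟩ := beta_bound (k := k) (β := β) hσ (by omega) h (by omega)
  rcases hke with ⟨rfl, rfl⟩ | ⟨rfl, rfl⟩ | ⟨rfl, rfl⟩ | ⟨rfl, rfl⟩ <;>
    rcases hσ with rfl | rfl <;> rcases hd with rfl | rfl <;> interval_cases β <;>
    push_cast at h hdvd <;> norm_num at h hdvd ⊢

variable [IsSimpleGroup G]

/-- The exceptional characters at seventeen. -/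
theorem seventeen_data (hG : ¬ IsMulCommutative G) {a : ℕ}
    (hcard : Nat.card G = 9 * 2 ^ a * 17) {P : Subgroup G} (hP : Nat.card P = 17)
    (D : QData P 17) :
    D.e = 8 ∧ D.k = 2 ∧ D.d = 9 ∧ ∀ χ, D.dg χ = 9 ↔ χ ∈ D.X := by
  classical
  have hke : (D.e = 2 ∧ D.k = 8) ∨ (D.e = 4 ∧ D.k = 4) ∨ (D.e = 8 ∧ D.k = 2) ∨
      (D.e = 16 ∧ D.k = 1) := by
    have h := D.ke
    have hd : D.e ∣ 16 := ⟨D.k, by rw [mul_comm]; omega⟩
    have h2 := D.e_two
    have := Nat.le_of_dvd (by norm_num) hd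
    interval_cases hE : D.e <;> norm_num at hd <;> omega
  have hnorm := D.norm_bound {trivChar G} (by simpa using D.triv_not)
  rw [Finset.sum_singleton, D.b_triv, one_mul] at hnorm
  have hmem : ∀ φ, φ ≠ trivChar G → D.dg φ ≤ 12 → φ ∈ D.X := fun φ hne hle =>
    D.mem_X_of_small hG hP (by norm_num) hne fun b hb => by
      have h12 : (D.dg φ : ℤ) ≤ 12 := by exact_mod_cast hle
      have : |b| ≤ 4 := abs_le.2 ⟨by push_cast at hb; nlinarith, by push_cast at hb; nlinarith⟩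
      push_cast
      linarith
  obtain ⟨χ, hne, hd⟩ := D.exists_small_odd (by norm_num) (by norm_num) hcard
  have hX := hmem χ hne (by omega)
  obtain ⟨-, h2, h3⟩ := D.on_X χ hX
  rw [h2] at hd
  have main : D.e = 8 ∧ D.k = 2 ∧ D.d = 9 := by
    rcases cases_seventeen D.hσ hke hnorm hd h3 with h | ⟨he16, -, hd3, hsum⟩
    · exact h
    · exfalso
      have hlt := column_lt hG χ hne (D.deg χ) hP (by norm_num) (D.column_eq χ)
      rw [D.colVal_of_mem hX, he16, h2, hd3] at hlt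
      push_cast at hlt
      linarith
  refine ⟨main.1, main.2.1, main.2.2, fun ψ => ⟨fun h => hmem ψ (fun e => ?_) (by omega),
    fun h => by rw [(D.on_X ψ h).2.1, main.2.2]⟩⟩
  have h1 := D.deg ψ
  rw [h, e, trivChar_apply] at h1
  norm_num at h1

end CfsgLib.NineTwoQ
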