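import Cfsg.Agent.NineTwoQ.Degrees
import Cfsg.Agent.OrderThreePrimes.Three
import Cfsg.Agent.S1001

/-!
# The prime `q` occurs once and its Sylow subgroup is self-centralising
-/

set_option autoImplicit false
set_option linter.style.haveILetI false
set_option linter.unusedSectionVars false

namespace CfsgLib.NineTwoQ

open CfsgLib.Characters CfsgLib.PrincipalBlock Ctx
open scoped commutatorElement

universe u

variable {G : Type u} [Group G] [Fintype G] [IsSimpleGroup G] {c : Ctx G}

/-- The rational character of degree `q` forces the Sylow `q`-subgroup to have order `q`. -/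
theorem Pair.exponent_q (hG : ¬ IsMulCommutative G) {q a b : ℕ} (w : Pair c q) (hq : q.Prime)
    (hq3 : 3 ≤ q) (hcard : Nat.card G = 9 * 2 ^ a * q ^ b) : b = 1 := by
  have hb : b ≠ 0 := by
    intro hb
    subst hb
    rw [pow_zero, mul_one] at hcard
    haveI := Characters.isSolvable_of_card_eq_primePow_mul (G := G) 3 2 2 a Nat.prime_three
      Nat.prime_two (by rw [hcard]; norm_num)
    have hlt := Group.IsSolvable.commutator_lt_top_of_nontrivial G
    rcases (inferInstance : IsSimpleGroup G).eq_bot_or_eq_top_of_normal (commutator G) inferInstance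
      with h | h
    · refine hG ⟨⟨fun x y => ?_⟩⟩
      have : (⁅x, y⁆ : G) ∈ commutator G := Subgroup.commutator_mem_commutator
        (Subgroup.mem_top x) (Subgroup.mem_top y)
      rw [h, Subgroup.mem_bot, commutatorElement_eq_one_iff_mul_comm] at this
      exact this
    · exact hlt.ne h
  by_contra hb1
  haveI : Fact q.Prime := ⟨hq⟩
  obtain ⟨R, hR⟩ := Sylow.exists_subgroup_card_pow_prime (G := G) q (n := 2)
    (by rw [hcard]; exact (pow_dvd_pow q (by omega)).trans (dvd_mul_left _ _))
  exact OrderThreePrimes.false_of_degree_prime hq hq3 w.B w.B_one w.B_ne w.B_rat R hR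

/-- The elements of order `q` generate their centralisers. -/
theorem exists_self_centralizing {q a : ℕ} (hq : q.Prime)
    (hcard : Nat.card G = 9 * 2 ^ a * q) :
    ∃ P : Subgroup G, Nat.card P = q ∧ Subgroup.centralizer (P : Set G) = P ∧
      ∀ g ∈ P, g ≠ 1 → Subgroup.centralizer ({g} : Set G) = P := by
  haveI : Fact q.Prime := ⟨hq⟩
  obtain ⟨x, hx⟩ := exists_prime_orderOf_dvd_card' (G := G) q (hcard ▸ dvd_mul_left _ _)
  have key : ∀ y : G, orderOf y = q → Subgroup.centralizer ({y} : Set G) = Subgroup.zpowers y :=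
    fun y hy => Cfsg.Agent.S1001.result q 2 a hq (by rw [hcard]; ring) y hy
  have hcardP : Nat.card (Subgroup.zpowers x) = q := by rw [Nat.card_zpowers, hx]
  have hall : ∀ g ∈ Subgroup.zpowers x, g ≠ 1 →
      Subgroup.centralizer ({g} : Set G) = Subgroup.zpowers x := by
    intro g hg hg1
    have hgq : orderOf g = q := (hq.eq_one_or_self_of_dvd _
      (hcardP ▸ Subgroup.orderOf_dvd_natCard _ hg)).resolve_left
        fun h => hg1 (orderOf_eq_one_iff.1 h)
    rw [key g hgq]
    exact Subgroup.eq_of_le_of_card_ge (Subgroup.zpowers_le.2 hg)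
      (by rw [hcardP, Nat.card_zpowers, hgq])
  refine ⟨Subgroup.zpowers x, hcardP, le_antisymm ?_ fun g hg => ?_, hall⟩
  · exact (Subgroup.centralizer_le (Set.singleton_subset_iff.2 (Subgroup.mem_zpowers x))).trans
      (hall x (Subgroup.mem_zpowers x) fun h => hq.ne_one (by rw [← hx, h, orderOf_one])).le
  · refine Subgroup.mem_centralizer_iff.2 fun y hy => ?_
    obtain ⟨i, rfl⟩ := hg
    obtain ⟨j, rfl⟩ := hy
    exact ((Commute.refl x).zpow_zpow j i).eq

end CfsgLib.NineTwoQ
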