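import Cfsg.Agent.NineTwoQ.Seventeen
import Cfsg.Agent.Characters.Integrality
import Cfsg.Agent.GaloisConj.Basic
import Cfsg.Agent.S1001

/-!
# The power of two is bounded
-/

set_option autoImplicit false
set_option linter.style.haveILetI false
set_option linter.unusedSectionVars false

namespace CfsgLib.NineTwoQ

open CfsgLib.Characters CfsgLib.PrincipalBlock Ctx
open scoped ComplexConjugate

universe u

variable {G : Type u} [Group G] [Fintype G] [IsSimpleGroup G]

/-- The exceptional characters of degree nine are rational at the 2-elements. -/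
theorem rational_at_two {P : Subgroup G} {q : ℕ} (hq : q.Prime) (hq2 : q ≠ 2)
    (hP : Nat.card P = q) (D : QData P q) (h9 : ∀ χ, D.dg χ = 9 ↔ χ ∈ D.X)
    {ψ : Cfsg.IrrCharacter G} (hψ : ψ ∈ D.X) (t : G) (ht : ∃ j, orderOf t = 2 ^ j) (k : ℕ)
    (hk : k.Coprime (Nat.card G)) : (ψ : G → ℂ) (t ^ k) = (ψ : G → ℂ) t := by
  classical
  rcases eq_or_ne t 1 with rfl | ht1
  · rw [one_pow]
  set φ : Cfsg.IrrCharacter G := ⟨_, GaloisConj.isIrrCharacter_pow ψ.2 hk⟩ with hφdef
  have hφ : φ ∈ D.X := by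
    refine (h9 φ).1 ?_
    have h1 : (φ : G → ℂ) 1 = (D.dg ψ : ℂ) := by
      show (ψ : G → ℂ) (1 ^ k) = _
      rw [one_pow, D.deg]
    rw [D.deg] at h1
    exact (Nat.cast_injective h1).trans ((h9 ψ).2 hψ)
  have hnot : ∀ g : G, g * t * g⁻¹ ∉ P := fun g hg => by
    obtain ⟨j, hj⟩ := ht
    have hd := Subgroup.orderOf_dvd_natCard P hg
    rw [hP, show g * t * g⁻¹ = MulAut.conj g t from rfl, MulEquiv.orderOf_eq, hj] at hd
    rcases (hq.eq_one_or_self_of_dvd _ hd) with h | h
    · exact ht1 (orderOf_eq_one_iff.1 (hj.trans h))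
    · have : q ∣ 2 := hq.dvd_of_dvd_pow (n := j) (h ▸ dvd_rfl)
      exact hq2 ((Nat.prime_dvd_prime_iff_eq hq Nat.prime_two).1 this)
  have h1 := D.val_rel t hnot ψ hψ
  have h2 := D.val_rel t hnot φ hφ
  have hσ : (D.σ : ℂ) ≠ 0 := by rcases D.hσ with e | e <;> rw [e] <;> norm_num
  show (φ : G → ℂ) t = _
  exact mul_left_cancel₀ hσ (by linear_combination h2 - h1)

omit [IsSimpleGroup G] in
/-- The weighted class product at the generalized character `α`. -/
theorem exists_three_pair {c : Ctx G} {q : ℕ} (hq : q ≠ 0) (w : Pair c q) {z : G}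
    (hA : (w.A : G → ℂ) z = 0) (hα : w.α z = 0) :
    ∃ g : G, 3 ∣ orderOf g ∧
      Nat.card (Subgroup.centralizer ({z} : Set G)) ^ 2 * 3 *
          (Subgroup.centralizer ({g} : Set G)).index * q ≤ Nat.card G ^ 2 * 2 ^ w.i := by
  classical
  set T := Finset.univ.filter fun g : G => w.α g = 3
  set S := ∑ g ∈ T, pairCount z g with hS
  have hB : (w.ε' : ℂ) * (w.B : G → ℂ) z = -1 := by
    have h := w.α_eq z
    rw [hA, hα] at h
    linear_combination -h
  have hε2 : (w.ε' : ℂ) * w.ε' = 1 := by rcases w.hε' with e | e <;> rw [e] <;> norm_num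
  have hBB : (w.B : G → ℂ) z * (w.B : G → ℂ) z = 1 := by
    linear_combination ((w.ε' : ℂ) * (w.B : G → ℂ) z - 1) * hB -
      ((w.B : G → ℂ) z * (w.B : G → ℂ) z) * hε2
  have hne : ∀ χ, w.A = χ → w.B ≠ χ := by
    intro χ h1 h2
    have h := congrArg (fun φ : Cfsg.IrrCharacter G => (φ : G → ℂ) 1) (h1.trans h2.symm)
    simp only [w.A_one, w.B_one] at h
    have h' : 2 ^ w.i = q := by exact_mod_cast h
    rcases w.near with e | e <;> omega
  have hcoef : ∀ χ : Cfsg.IrrCharacter G, ∑ g : G, w.α g * conj ((χ : G → ℂ) g) =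
      (Nat.card G : ℂ) * ((if trivChar G = χ then 1 else 0) + (w.ε : ℂ) * (if w.A = χ then 1 else 0)
        + (w.ε' : ℂ) * (if w.B = χ then 1 else 0)) := by
    intro χ
    rw [← classInner_irr (trivChar G) χ, ← classInner_irr w.A χ, ← classInner_irr w.B χ]
    simp only [Cfsg.classInner, w.α_eq, trivChar_apply, add_mul, Finset.sum_add_distrib, mul_assoc,
      ← Finset.mul_sum]
    field_simp [natCard_ne_zero (G := G)]
  have hmain := sum_mul_pairCount z w.α
  simp only [hcoef] at hmain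
  have hLHS : ∑ g : G, w.α g * (pairCount z g : ℂ) = 3 * (S : ℂ) := by
    rw [hS, Nat.cast_sum, Finset.mul_sum, Finset.sum_filter]
    refine Finset.sum_congr rfl fun g _ => ?_
    rcases w.α_cases g with e | ⟨e, -⟩
    · rw [e, if_neg (by norm_num), zero_mul]
    · rw [e, if_pos rfl]
  simp only [mul_assoc, add_mul, Finset.sum_add_distrib, ← Finset.mul_sum, ite_mul, one_mul,
    zero_mul, Finset.sum_ite_eq, Finset.mem_univ, if_true] at hmain
  rw [hLHS, hA, hBB, trivChar_apply, trivChar_apply, w.B_one] at hmain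
  have hkey : (q : ℂ) + w.ε' = (2 : ℂ) ^ w.i := by
    have h := w.degree_eq
    rcases w.near with e | e <;> rcases w.hε with h1 | h1 <;> rcases w.hε' with h2 | h2 <;>
      rw [h1, h2] at h <;> push_cast [h2] <;>
      first
        | (exfalso; omega)
        | (have e' : ((q : ℂ) + 1) = (2 : ℂ) ^ w.i := by exact_mod_cast e
           linear_combination e')
        | (have e' : (q : ℂ) = (2 : ℂ) ^ w.i + 1 := by exact_mod_cast e
           linear_combination e')
  have hq' : (q : ℂ) ≠ 0 := Nat.cast_ne_zero.2 hq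
  have hN : Nat.card (Subgroup.centralizer ({z} : Set G)) ^ 2 * (3 * S) * q =
      Nat.card G ^ 2 * 2 ^ w.i := by
    have : (Nat.card (Subgroup.centralizer ({z} : Set G)) : ℂ) ^ 2 * (3 * (S : ℂ)) * q =
        (Nat.card G : ℂ) ^ 2 * (2 : ℂ) ^ w.i := by
      rw [hmain, ← hkey]
      field_simp
      ring
    exact_mod_cast this
  have hS0 : S ≠ 0 := fun h => by
    rw [h, mul_zero, mul_zero, zero_mul] at hN
    exact (mul_ne_zero (pow_ne_zero 2 Nat.card_pos.ne') (pow_ne_zero w.i two_ne_zero)) hN.symm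
  obtain ⟨g, hgT, hg⟩ := Finset.exists_ne_zero_of_sum_ne_zero hS0
  have hαg : w.α g = 3 := (Finset.mem_filter.1 hgT).2
  refine ⟨g, ?_, ?_⟩
  · rcases w.α_cases g with e | ⟨-, h⟩
    · rw [e] at hαg
      norm_num at hαg
    · exact h
  have hcl : (Subgroup.centralizer ({g} : Set G)).index ≤ S := by
    rw [← card_conjugates_eq_index, Nat.card_eq_fintype_card, Fintype.card_subtype,
      Finset.card_eq_sum_ones]
    refine (Finset.sum_le_sum fun x hx => ?_).trans
      (Finset.sum_le_sum_of_subset (f := fun x => pairCount z x) fun x hx => ?_)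
    · obtain ⟨y, rfl⟩ := isConj_iff.1 (Finset.mem_filter.1 hx).2.symm
      obtain ⟨⟨v, hv1, hv2⟩⟩ := (Nat.card_pos_iff.1 (Nat.pos_of_ne_zero hg)).1
      refine Nat.card_pos_iff.2 ⟨⟨⟨y * v * y⁻¹, hv1.trans (isConj_iff.2 ⟨y, rfl⟩),
        hv2.trans (isConj_iff.2 ⟨y, ?_⟩)⟩⟩, inferInstance⟩
      group
    · obtain ⟨y, rfl⟩ := isConj_iff.1 (Finset.mem_filter.1 hx).2.symm
      refine Finset.mem_filter.2 ⟨Finset.mem_univ _, ?_⟩
      have hcf : ∀ χ : Cfsg.IrrCharacter G, (χ : G → ℂ) (y * g * y⁻¹) = (χ : G → ℂ) g := fun χ =>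
        classFunction_isConj (isClassFunction_of_isIrr χ.2) (isConj_iff.2 ⟨y, rfl⟩).symm
      rw [w.α_eq, hcf, hcf, ← w.α_eq, hαg]
  calc _ ≤ Nat.card (Subgroup.centralizer ({z} : Set G)) ^ 2 * (3 * S) * q := by
        rw [mul_assoc _ 3]
        gcongr
    _ = _ := hN

/-- The exponent at seventeen. -/
theorem seventeen_exponent (hG : ¬ IsMulCommutative G) {c : Ctx G} (w : Pair c 17) {a : ℕ}
    (ha : 0 < a) (hcard : Nat.card G = 9 * 2 ^ a * 17) {P : Subgroup G} (hP : Nat.card P = 17)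
    (D : QData P 17) : a = 4 := by
  classical
  obtain ⟨he, -, -, h9⟩ := seventeen_data hG hcard hP D
  obtain ⟨ψ, hψ⟩ := Finset.card_pos.1 (D.card_X ▸ D.k_pos : 0 < D.X.card)
  have hψne : ψ ≠ trivChar G := fun e => D.triv_not (e ▸ hψ)
  have hψ9 : (ψ : G → ℂ) 1 = (9 : ℕ) := by rw [D.deg, (h9 ψ).2 hψ]
  obtain ⟨z, hz, hzC, hzI⟩ := exists_two_central (G := G) ha (m := 153)
    (by rw [hcard]; ring) (by norm_num)
  have hz1 : z ≠ 1 := fun e => by rw [e, orderOf_one] at hz; omega
  have hA : (w.A : G → ℂ) z = 0 := apply_eq_zero_of_coprime hG w.A w.A_ne w.A_one hz1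
    (Nat.Coprime.pow_left _ (Nat.Coprime.coprime_dvd_right hzI (by norm_num)))
  have hα : w.α z = 0 := (w.α_cases z).resolve_right fun h => by
    rw [hz] at h
    norm_num at h
  obtain ⟨g, hg3, hineq⟩ := exists_three_pair (by norm_num) w hA hα
  set k := g ^ (orderOf g / 3) with hkdef
  have hk : orderOf k = 3 := orderOf_pow_orderOf_div (orderOf_pos g).ne' hg3
  set K := Subgroup.centralizer ({k} : Set G) with hK
  have hle : Subgroup.centralizer ({g} : Set G) ≤ K := fun x hx =>
    Subgroup.mem_centralizer_singleton_iff.2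
      ((Commute.pow_right (Subgroup.mem_centralizer_singleton_iff.1 hx) _).eq)
  have hK72 : Nat.card K ≤ 72 := by
    haveI : Fact (Nat.Prime 17) := ⟨by norm_num⟩
    haveI : Fact (Nat.Prime 2) := ⟨Nat.prime_two⟩
    have hdvd : Nat.card K ∣ 9 * 2 ^ a * 17 := hcard ▸ Subgroup.card_subgroup_dvd_card K
    have h17 : ¬ 17 ∣ Nat.card K := by
      intro h
      obtain ⟨⟨y, hy⟩, hyo⟩ := exists_prime_orderOf_dvd_card' (G := K) 17 h
      rw [Subgroup.orderOf_mk] at hyo
      have hcen := Cfsg.Agent.S1001.result 17 2 a (by norm_num) (by rw [hcard]; ring) y hyo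
      have hky : k ∈ Subgroup.zpowers y := hcen ▸ Subgroup.mem_centralizer_singleton_iff.2
        (Subgroup.mem_centralizer_singleton_iff.1 hy).symm
      have := Subgroup.orderOf_dvd_natCard _ hky
      rw [hk, Nat.card_zpowers, hyo] at this
      norm_num at this
    have hdvd' : Nat.card K ∣ 9 * 2 ^ a :=
      ((Nat.Prime.coprime_iff_not_dvd (by norm_num)).2 h17).symm.dvd_of_dvd_mul_right hdvd
    obtain ⟨x, y, hx, hy, hxy⟩ := exists_dvd_and_dvd_of_dvd_mul hdvd'
    obtain ⟨t, -, rfl⟩ := (Nat.dvd_prime_pow Nat.prime_two).1 hy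
    obtain ⟨U, hU⟩ := Sylow.exists_subgroup_card_pow_prime (G := K) 2 (n := t)
      (hxy ▸ dvd_mul_left _ _)
    have h8 := card_centralizer_le hG ψ hψne hψ9 (m := 2 ^ a * 17) (by rw [hcard]; ring)
      (fun h => by
        rcases Nat.prime_three.dvd_mul.1 h with h' | h'
        · exact absurd (Nat.prime_three.dvd_of_dvd_pow h') (by norm_num)
        · norm_num at h')
      (rational_at_two (by norm_num) (by norm_num) hP D h9 hψ) hk
      (U := U.map K.subtype) ⟨t, by rw [Subgroup.card_map_of_injective K.subtype_injective, hU]⟩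
      (Subgroup.map_subtype_le U)
    rw [Subgroup.card_map_of_injective K.subtype_injective, hU] at h8
    rw [hxy]
    calc x * 2 ^ t ≤ 9 * 8 := Nat.mul_le_mul (Nat.le_of_dvd (by norm_num) hx) h8
      _ = 72 := by norm_num
  have hi : 2 ^ w.i = 16 := by
    rcases w.near with e | e
    · exfalso
      have h16 : 2 ^ w.i = 18 := by omega
      have hpow : (18 : ℕ) ∣ 2 ^ w.i := h16 ▸ dvd_rfl
      exact absurd (Nat.prime_three.dvd_of_dvd_pow ((show 3 ∣ 18 by norm_num).trans hpow))
        (by norm_num)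
    · omega
  have hpow : 2 ^ a ≤ 3456 := by
    have hidx := (Subgroup.centralizer ({g} : Set G)).card_mul_index
    have hCg : Nat.card (Subgroup.centralizer ({g} : Set G)) ≤ 72 :=
      (Subgroup.card_le_of_le hle).trans hK72
    have hCz : 2 ^ a ≤ Nat.card (Subgroup.centralizer ({z} : Set G)) :=
      Nat.le_of_dvd Nat.card_pos hzC
    rw [hi, hcard] at hineq
    rw [hcard] at hidx
    set I := (Subgroup.centralizer ({g} : Set G)).index
    have h1 : (2 ^ a) ^ 2 * 3 * (9 * 2 ^ a * 17) * 17 ≤ (9 * 2 ^ a * 17) ^ 2 * 16 * 72 := by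
      calc (2 ^ a) ^ 2 * 3 * (9 * 2 ^ a * 17) * 17
          ≤ Nat.card (Subgroup.centralizer ({z} : Set G)) ^ 2 * 3 *
            (Nat.card (Subgroup.centralizer ({g} : Set G)) * I) * 17 := by
              rw [hidx]
              gcongr
        _ = (Nat.card (Subgroup.centralizer ({z} : Set G)) ^ 2 * 3 * I * 17) *
            Nat.card (Subgroup.centralizer ({g} : Set G)) := by ring
        _ ≤ _ := Nat.mul_le_mul hineq hCg
    have hpos : 0 < 2 ^ a := by positivity
    nlinarith
  have ha11 : a ≤ 11 := by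
    by_contra h
    have := Nat.pow_le_pow_right (show 2 > 0 by norm_num) (show 12 ≤ a by omega)
    omega
  have hn := D.n_mul
  have hnm := D.n_mod
  rw [he, hcard] at hn
  interval_cases a <;> norm_num at hn <;> first | rfl | omega

end CfsgLib.NineTwoQ
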